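/-
Involutions of a Chevalley group over a finite field of odd order are conjugate into the monomial
subgroup.
-/
import Mathlib
import Cfsg.Agent.Lib.Known.ChevSinger.Bruhat
import Cfsg.Agent.Lib.Chev.Order

set_option autoImplicit false

namespace CfsgLib.Chev.Invol

open Cfsg.Lie CfsgLib.Chev CfsgLib.Known.ChevSinger

universe u

variable {D : ChevalleyDatum} {co : ℕ → ℕ → ℤ} (hF : Facts D co)
variable {F : Type u} [Field F] [Finite F]
include hF

/-- Elements of the positive unipotent subgroup have odd order in odd characteristic. -/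
theorem pos_pow_eq_one (hC : CommF.{u} D) {x : GL D.Idx F}
    (hx : x ∈ rootClosure D F (D.nroots / 2 ≤ ·)) : x ^ Nat.card F ^ (D.nroots / 2) = 1 := by
  haveI := Fintype.ofFinite F
  rw [← hF.card_pos_unipotent hC (K := F)]
  exact congrArg Subtype.val (pow_card_eq_one' (x := (⟨x, hx⟩ : ↥(rootClosure D F (D.nroots / 2 ≤ ·)))))

/-- An element of the Borel subgroup killed by a power of the order of the field is unipotent. -/
theorem mem_pos_of_pow (hodd : Odd (Nat.card F)) {y : GL D.Idx F} (hy : y ∈ D.borelSubgroup F)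
    {N : ℕ} (hN : y ^ N = 1) (hcop : N.Coprime (Nat.card F - 1)) :
    y ∈ rootClosure D F (D.nroots / 2 ≤ ·) := by
  have _ := hodd
  obtain ⟨u, hu, h, hh, rfl⟩ := hF.mem_borel_iff.1 hy
  have key : ∀ k : ℕ, ∃ u' ∈ rootClosure D F (D.nroots / 2 ≤ ·), (u * h) ^ k = u' * h ^ k := by
    intro k
    induction k with
    | zero => exact ⟨1, one_mem _, by simp⟩
    | succ k ih =>
      obtain ⟨u', hu', e⟩ := ih
      refine ⟨u' * (h ^ k * u * (h ^ k)⁻¹), Subgroup.mul_mem _ hu'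
        ((Subgroup.mem_normalizer_iff.1 (hF.diagonal_le_normalizer _ (Subgroup.pow_mem _ hh k)) u).1 hu), ?_⟩
      rw [pow_succ, e, pow_succ]
      group
  obtain ⟨u', hu', e⟩ := key N
  rw [hN] at e
  have h1 : h ^ N ∈ rootClosure D F (D.nroots / 2 ≤ ·) ⊓ D.diagonalSubgroup F := by
    refine ⟨?_, Subgroup.pow_mem _ hh N⟩
    rw [show h ^ N = u'⁻¹ by rw [eq_inv_iff_mul_eq_one]; exact mul_eq_one_comm.1 e.symm]
    exact Subgroup.inv_mem _ hu'
  rw [hF.pos_inf_diagonal, Subgroup.mem_bot] at h1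
  obtain ⟨c, rfl⟩ := hF.mem_diagonal_iff.1 hh
  have h2 : hT D c ^ (Nat.card F - 1) = 1 := by
    haveI := Fintype.ofFinite F
    have : ∀ k : ℕ, hT D c ^ k = hT D (fun i => c i ^ k) := by
      intro k
      induction k with
      | zero => simp [hF.hT_one]
      | succ k ih => rw [pow_succ, ih, ← hF.hT_mul]; simp [pow_succ]
    rw [this]
    have hc : ∀ i, c i ^ (Nat.card F - 1) = 1 := fun i => by
      rw [← Nat.card_units]; exact pow_card_eq_one'
    rw [show (fun i => c i ^ (Nat.card F - 1)) = fun _ => 1 from funext hc, hF.hT_one]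
  have h3 : hT D c = 1 := by
    have : hT D c ^ N.gcd (Nat.card F - 1) = 1 := pow_gcd_eq_one.2 ⟨h1, h2⟩
    rwa [hcop.gcd_eq_one, pow_one] at this
  rwa [h3, mul_one]

/-- An involution is conjugate to a monomial involution. -/
theorem exists_conj_monomial (hC : CommF.{u} D) (hodd : Odd (Nat.card F)) {g : GL D.Idx F}
    (hg : g ∈ D.group F) (hg2 : g * g = 1) :
    ∃ k ∈ D.group F, k * g * k⁻¹ ∈ D.monomialSubgroup F := by
  obtain ⟨b, hb, n, hn, σ, hσ, u, hu, rfl⟩ := hF.bruhat_exists hC hg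
  have hu0 : u ∈ D.borelSubgroup F := hF.pos_le_borel (rootClosure_mono (fun _ _ h => h.2.1) hu)
  set β := u * b with hβdef
  have hβ : β ∈ D.borelSubgroup F := Subgroup.mul_mem _ hu0 hb
  have hβ2 : n * β * (n * β) = 1 := by
    calc n * β * (n * β) = b⁻¹ * (b * n * u * (b * n * u)) * b := by rw [hβdef]; group
      _ = 1 := by rw [hg2]; group
  have hn2 : n⁻¹ * n⁻¹ ∈ D.diagonalSubgroup F := by
    refine hF.bruhat_eqv hC hβ (Subgroup.one_mem _) hn (Subgroup.inv_mem _ hn) hβ (Subgroup.one_mem _) ?_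
    rw [one_mul, mul_one, ← mul_eq_one_iff_eq_inv']
    rw [← hβ2]; group
  have hsq : n * n ∈ D.diagonalSubgroup F := by
    rw [show n * n = (n⁻¹ * n⁻¹)⁻¹ by rw [mul_inv_rev, inv_inv]]; exact Subgroup.inv_mem _ hn2
  obtain ⟨x, hx, h, hh, hxh⟩ := hF.mem_borel_iff.1 hβ
  set N := Nat.card F ^ (D.nroots / 2) with hN
  have hNodd : Odd N := hodd.pow
  have hcop : N.Coprime (Nat.card F - 1) := by
    refine Nat.Coprime.pow_left _ ?_
    have : 1 ≤ Nat.card F := Nat.card_pos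
    exact Nat.coprime_of_dvd fun k hk h1 h2 => hk.not_dvd_one (by
      have := Nat.dvd_sub h1 h2
      rwa [show Nat.card F - (Nat.card F - 1) = 1 by omega] at this)
  -- the conjugate of `x` by `n`
  have hnβ : n * β * n⁻¹ ∈ D.borelSubgroup F := by
    have : n * β * n⁻¹ = β⁻¹ * (n * n)⁻¹ := by
      rw [eq_inv_mul_iff_mul_eq, eq_inv_iff_mul_eq_one]
      calc β * (n * β * n⁻¹) * (n * n) = n⁻¹ * (n * β * (n * β)) * n := by group
        _ = 1 := by rw [hβ2]; group
    rw [this]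
    exact Subgroup.mul_mem _ (Subgroup.inv_mem _ hβ) (hF.diagonal_le_borel (Subgroup.inv_mem _ hsq))
  have hnx : n * x * n⁻¹ ∈ rootClosure D F (D.nroots / 2 ≤ ·) := by
    refine mem_pos_of_pow hF hodd ?_ (N := N) ?_ hcop
    · rw [show n * x * n⁻¹ = n * β * n⁻¹ * (n * h * n⁻¹)⁻¹ by rw [hxh]; group]
      exact Subgroup.mul_mem _ hnβ (Subgroup.inv_mem _ (hF.diagonal_le_borel (monomial_conj_diag hF hn hh)))
    · rw [conj_pow, pos_pow_eq_one hF hC hx]; group
  have hnorm : ∀ {d y : GL D.Idx F}, d ∈ D.diagonalSubgroup F → y ∈ rootClosure D F (D.nroots / 2 ≤ ·) →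
      d * y * d⁻¹ ∈ rootClosure D F (D.nroots / 2 ≤ ·) := fun hd hy =>
    (Subgroup.mem_normalizer_iff.1 (hF.diagonal_le_normalizer _ hd) _).1 hy
  set s := n * h with hs
  set v := h⁻¹ * x * h with hv
  have hvU : v ∈ rootClosure D F (D.nroots / 2 ≤ ·) := by
    have := hnorm (Subgroup.inv_mem _ hh) hx
    rwa [inv_inv] at this
  have hs_mono : s ∈ D.monomialSubgroup F := Subgroup.mul_mem _ hn (Subgroup.mem_sup_left hh)
  have hsv : s * v = n * β := by rw [hs, hv, hxh]; group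
  have hsvs : s * v * s⁻¹ = n * x * n⁻¹ := by rw [hs, hv]; group
  have e0 : s * v * (s * v) = 1 := by rw [hsv, hβ2]
  have hsH : s * s ∈ D.diagonalSubgroup F := by
    rw [show s * s = (n * h * n⁻¹) * (n * n) * h by rw [hs]; group]
    exact Subgroup.mul_mem _ (Subgroup.mul_mem _ (monomial_conj_diag hF hn hh) hsq) hh
  have hs2 : s * s = 1 := by
    have e2 : s * s = (s * v * s⁻¹)⁻¹ * v⁻¹ := by
      calc s * s = (s * v * s⁻¹)⁻¹ * (s * v * (s * v)) * v⁻¹ := by group
        _ = _ := by rw [e0, mul_one]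
    have e3 : s * s ∈ rootClosure D F (D.nroots / 2 ≤ ·) ⊓ D.diagonalSubgroup F :=
      ⟨by
        rw [e2]
        exact Subgroup.mul_mem _ (Subgroup.inv_mem _ (hsvs ▸ hnx)) (Subgroup.inv_mem _ hvU), hsH⟩
    rwa [hF.pos_inf_diagonal, Subgroup.mem_bot] at e3
  have hinv : s * v * s⁻¹ = v⁻¹ := by
    rw [show s⁻¹ = s from inv_eq_of_mul_eq_one_right hs2]
    rw [eq_inv_iff_mul_eq_one, ← e0]; group
  obtain ⟨j, hj⟩ := hNodd
  set w := v ^ (j + 1) with hw
  have hww : w * w = v := by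
    rw [hw, ← pow_add, show j + 1 + (j + 1) = N + 1 by omega, pow_succ, pos_pow_eq_one hF hC hvU, one_mul]
  have hsw : s * w * s⁻¹ = w⁻¹ := by rw [hw, ← conj_pow, hinv, inv_pow]
  refine ⟨w * b⁻¹, Subgroup.mul_mem _ (hF.pos_le_group (Subgroup.pow_mem _ hvU _))
    (Subgroup.inv_mem _ (hF.borel_le_group hb)), ?_⟩
  have : w * b⁻¹ * (b * n * u) * (w * b⁻¹)⁻¹ = s := by
    calc w * b⁻¹ * (b * n * u) * (w * b⁻¹)⁻¹ = w * (n * β) * w⁻¹ := by rw [hβdef]; group
      _ = w * (s * (w * w)) * w⁻¹ := by rw [hww, hsv]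
      _ = w * (s * w * s⁻¹) * s := by group
      _ = s := by rw [hsw]; group
  rw [this]
  exact hs_mono

end CfsgLib.Chev.Invol
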