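/-
Orthogonal pairs of roots, rank one computations with diagonal elements, and the element
`n_r(u) d` conjugate to a diagonal element.
-/
import Mathlib
import Cfsg.Agent.Lib.Known.ChevSinger.Bruhat
import Cfsg.Agent.Lib.Chev.SL2

set_option autoImplicit false

namespace CfsgLib.Chev.Invol

open Cfsg.Lie CfsgLib.Chev CfsgLib.Known.ChevSinger
open scoped MatrixGroups

universe u

variable {D : ChevalleyDatum} {co : ℕ → ℕ → ℤ} (hF : Facts D co)
variable {F : Type u} [Field F]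

/-- `m` centralises both root subgroups `X_r` and `X_{-r}`. -/
def Cent (D : ChevalleyDatum) (r : ℕ) (m : GL D.Idx F) : Prop :=
  ∀ t : F, Commute m (xU D r t) ∧ Commute m (xU D (D.neg r) t)

theorem Cent.one {r : ℕ} : Cent D r (1 : GL D.Idx F) := fun _ => ⟨Commute.one_left _, Commute.one_left _⟩

theorem Cent.mul {r : ℕ} {m m' : GL D.Idx F} (h : Cent D r m) (h' : Cent D r m') : Cent D r (m * m') :=
  fun t => ⟨(h t).1.mul_left (h' t).1, (h t).2.mul_left (h' t).2⟩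

theorem Cent.inv {r : ℕ} {m : GL D.Idx F} (h : Cent D r m) : Cent D r m⁻¹ :=
  fun t => ⟨(h t).1.inv_left, (h t).2.inv_left⟩

theorem Cent.nU {r : ℕ} {m : GL D.Idx F} (h : Cent D r m) (v : F) : Commute m (nU D r v) :=
  ((h _).1.mul_right (h _).2).mul_right (h _).1

/-- Two roots whose rank one subgroups commute. -/
def Orth (D : ChevalleyDatum) (a b : ℕ) : Prop :=
  ∀ x ∈ [a, D.neg a], ∀ y ∈ [b, D.neg b], tgt D x y = none ∧ y ≠ D.neg x ∧ x < D.nroots ∧ y < D.nroots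

instance instDecidableOrth (D : ChevalleyDatum) (a b : ℕ) : Decidable (Orth D a b) :=
  inferInstanceAs (Decidable (∀ x ∈ [a, D.neg a], ∀ y ∈ [b, D.neg b],
    tgt D x y = none ∧ y ≠ D.neg x ∧ x < D.nroots ∧ y < D.nroots))

include hF

theorem commute_xU {x y : ℕ} (hx : x < D.nroots) (hy : y < D.nroots) (h : tgt D x y = none)
    (h' : y ≠ D.neg x) (t u : F) : Commute (xU D x t) (xU D y u) := by
  refine Units.ext ?_
  rw [Units.val_mul, Units.val_mul, hF.xU_val' hx, hF.xU_val' hy]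
  exact (hF.commute_of_chainComm hx hy h h' t u).eq

theorem Orth.commute {a b : ℕ} (h : Orth D a b) {x y : ℕ} (hx : x ∈ [a, D.neg a]) (hy : y ∈ [b, D.neg b])
    (t u : F) : Commute (xU D x t) (xU D y u) :=
  commute_xU hF (h x hx y hy).2.2.1 (h x hx y hy).2.2.2 (h x hx y hy).1 (h x hx y hy).2.1 t u

theorem Orth.cent {a b : ℕ} (h : Orth D a b) (v : F) : Cent D b (nU D a v) := by
  intro t
  have k : ∀ x ∈ [a, D.neg a], ∀ w : F, Commute (xU D x w) (xU D b t) ∧ Commute (xU D x w) (xU D (D.neg b) t) :=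
    fun x hx w => ⟨Orth.commute hF h hx (by simp) w t, Orth.commute hF h hx (by simp) w t⟩
  exact ⟨((k a (by simp) _).1.mul_left (k (D.neg a) (by simp) _).1).mul_left (k a (by simp) _).1,
    ((k a (by simp) _).2.mul_left (k (D.neg a) (by simp) _).2).mul_left (k a (by simp) _).2⟩

theorem Orth.cent' {a b : ℕ} (h : Orth D a b) (v : F) : Cent D a (nU D b v) := by
  intro t
  have k : ∀ x ∈ [b, D.neg b], ∀ w : F, Commute (xU D x w) (xU D a t) ∧ Commute (xU D x w) (xU D (D.neg a) t) :=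
    fun x hx w => ⟨(Orth.commute hF h (by simp) hx t w).symm, (Orth.commute hF h (by simp) hx t w).symm⟩
  exact ⟨((k b (by simp) _).1.mul_left (k (D.neg b) (by simp) _).1).mul_left (k b (by simp) _).1,
    ((k b (by simp) _).2.mul_left (k (D.neg b) (by simp) _).2).mul_left (k b (by simp) _).2⟩

theorem chiT_neg (c : ℕ → Fˣ) {r : ℕ} (hr : r < D.nroots) : chiT D c (D.neg r) = (chiT D c r)⁻¹ := by
  have := (hF.isWeight_hT c).neg r hr
  exact Additive.ofMul.injective (by simpa [chiT] using this)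

theorem nU_eq_hU_mul {r : ℕ} (hr : r < D.nroots) (u : F) :
    nU D r u = hU D r u * nU D r 1 := by
  rw [hU, mul_assoc, ← hF.nU_inv hr, inv_mul_cancel, mul_one]

theorem hU_conj_neg {r : ℕ} (hr : r < D.nroots) (u : Fˣ) (w : F) :
    hU D r (u : F) * xU D (D.neg r) w * (hU D r (u : F))⁻¹ = xU D (D.neg r) (((u : F) ^ 2)⁻¹ * w) := by
  rw [hF.hU_conj_xU hr (hF.neg_lt hr)]
  have : prE D r (D.neg r) = -2 := by rw [(hF.isWeight_prE hr).neg _ hr, hF.prE_self hr]
  rw [this, zpow_neg, Units.val_inv_eq_inv_val, show (2 : ℤ) = ((2 : ℕ) : ℤ) from rfl, zpow_natCast,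
    Units.val_pow_eq_pow_val]

/-- `(n_r(u) m')⁻¹ n_r(1) m h` acts on `X_r` by `u² χ_r(h)`. -/
theorem act_root {r : ℕ} (hr : r < D.nroots) {m m' : GL D.Idx F} (hm : Cent D r m) (hm' : Cent D r m')
    (c : ℕ → Fˣ) (u : Fˣ) (t : F) :
    ((nU D r (u : F) * m')⁻¹ * (nU D r 1 * m * hT D c)) * xU D r t *
        ((nU D r (u : F) * m')⁻¹ * (nU D r 1 * m * hT D c))⁻¹ =
      xU D r ((u : F) ^ 2 * (chiT D c r : F) * t) := by
  set w : F := (chiT D c r : F) * t with hw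
  have e2 : m * xU D r w * m⁻¹ = xU D r w := by rw [(hm w).1.eq, mul_inv_cancel_right]
  have e3 : nU D r (u : F) * xU D r ((u : F) ^ 2 * w) * (nU D r (u : F))⁻¹ = xU D (D.neg r) (-w) := by
    rw [nU_eq_hU_mul hF hr, mul_inv_rev]
    calc hU D r (u : F) * nU D r 1 * xU D r ((u : F) ^ 2 * w) * ((nU D r 1)⁻¹ * (hU D r (u : F))⁻¹)
        = hU D r (u : F) * (nU D r 1 * xU D r ((u : F) ^ 2 * w) * (nU D r 1)⁻¹) * (hU D r (u : F))⁻¹ := by group
      _ = _ := by
        rw [hF.nU_conj_self hr, hU_conj_neg hF hr, mul_neg, ← mul_assoc,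
          inv_mul_cancel₀ (pow_ne_zero _ u.ne_zero), one_mul]
  have e4 : m' * xU D r ((u : F) ^ 2 * w) * m'⁻¹ = xU D r ((u : F) ^ 2 * w) := by
    rw [(hm' _).1.eq, mul_inv_cancel_right]
  calc _ = (nU D r (u : F) * m')⁻¹ * (nU D r 1 * (m * (hT D c * xU D r t * (hT D c)⁻¹) * m⁻¹) *
        (nU D r 1)⁻¹) * (nU D r (u : F) * m') := by group
    _ = (nU D r (u : F) * m')⁻¹ * xU D (D.neg r) (-w) * (nU D r (u : F) * m') := by
      rw [hF.hT_conj_xU c hr]
      show (nU D r (u : F) * m')⁻¹ * (nU D r 1 * (m * xU D r w * m⁻¹) * (nU D r 1)⁻¹) * _ = _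
      rw [e2, hF.nU_conj_self hr]
    _ = (nU D r (u : F) * m')⁻¹ * (nU D r (u : F) * (m' * xU D r ((u : F) ^ 2 * w) * m'⁻¹) *
        (nU D r (u : F))⁻¹) * (nU D r (u : F) * m') := by rw [e4, e3]
    _ = xU D r ((u : F) ^ 2 * w) := by group
    _ = _ := by rw [hw, mul_assoc]

/-- A diagonal element with `χ_r = -1` inverts `n_r`. -/
theorem negate_nU {r : ℕ} (hr : r < D.nroots) {e : ℕ → Fˣ} (h : chiT D e r = -1) :
    (∀ t : F, hT D e * xU D r t * (hT D e)⁻¹ = xU D r (-t)) ∧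
    (∀ t : F, hT D e * xU D (D.neg r) t * (hT D e)⁻¹ = xU D (D.neg r) (-t)) ∧
    ∀ v : F, hT D e * nU D r v * (hT D e)⁻¹ = (nU D r v)⁻¹ := by
  have h' : chiT D e (D.neg r) = -1 := by rw [chiT_neg hF e hr, h, inv_neg, inv_one]
  have k : ∀ {x : ℕ}, x < D.nroots → chiT D e x = -1 → ∀ t : F,
      hT D e * xU D x t * (hT D e)⁻¹ = xU D x (-t) := fun hx hh t => by
    rw [hF.hT_conj_xU e hx]
    show xU D _ ((chiT D e _ : F) * t) = _
    rw [hh, Units.val_neg, Units.val_one, neg_one_mul]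
  have k1 := k hr h
  have k2 := k (hF.neg_lt hr) h'
  refine ⟨k1, k2, fun v => ?_⟩
  rw [hF.nU_inv hr]
  calc hT D e * nU D r v * (hT D e)⁻¹
      = (hT D e * xU D r v * (hT D e)⁻¹) * (hT D e * xU D (D.neg r) (-v⁻¹) * (hT D e)⁻¹) *
        (hT D e * xU D r v * (hT D e)⁻¹) := by rw [CfsgLib.Chev.nU]; group
    _ = _ := by rw [k1, k2, CfsgLib.Chev.nU, inv_neg]

/-- A diagonal element with `χ_r = 1` centralises the rank one subgroup. -/
theorem cent_of_chi {r : ℕ} (hr : r < D.nroots) {e : ℕ → Fˣ} (h : chiT D e r = 1) :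
    Cent D r (hT D e : GL D.Idx F) := by
  have h' : chiT D e (D.neg r) = 1 := by rw [chiT_neg hF e hr, h, inv_one]
  have k : ∀ {x : ℕ}, x < D.nroots → chiT D e x = 1 → ∀ t : F, Commute (hT D e) (xU D x t) :=
    fun {x} hx hh t => by
      have e1 := hF.hT_conj_xU e hx t
      change _ = xU D x ((chiT D e x : F) * t) at e1
      rw [hh, Units.val_one, one_mul, mul_inv_eq_iff_eq_mul] at e1
      exact e1
  exact fun t => ⟨k hr h t, k (hF.neg_lt hr) h' t⟩

/-- `n_r(u) d` is conjugate to `d` when `d` negates `X_r`. -/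
theorem conj_step (h2 : (2 : F) ≠ 0) {r : ℕ} (hr : r < D.nroots) {e : ℕ → Fˣ} (h : chiT D e r = -1)
    (u : Fˣ) :
    ∃ y ∈ D.group F, (∀ m : GL D.Idx F, Cent D r m → Commute m y) ∧
      y * hT D e * y⁻¹ = nU D r (u : F) * hT D e := by
  obtain ⟨k1, k2, -⟩ := negate_nU hF hr h
  set b : F := -(2 * (u : F))⁻¹ with hb
  clear_value b
  refine ⟨xU D r (u : F) * xU D (D.neg r) b, Subgroup.mul_mem _ (hF.xU_mem_group hr _)
    (hF.xU_mem_group (hF.neg_lt hr) _), fun m hm => (hm _).1.mul_right (hm _).2, ?_⟩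
  have e1 : hT D e * xU D (D.neg r) (-b) = xU D (D.neg r) b * hT D e := by
    have := k2 (-b)
    rwa [neg_neg, mul_inv_eq_iff_eq_mul] at this
  have e2 : hT D e * xU D r (-(u : F)) = xU D r (u : F) * hT D e := by
    have := k1 (-(u : F))
    rwa [neg_neg, mul_inv_eq_iff_eq_mul] at this
  calc xU D r (u : F) * xU D (D.neg r) b * hT D e * (xU D r (u : F) * xU D (D.neg r) b)⁻¹
      = xU D r (u : F) * xU D (D.neg r) b * (hT D e * xU D (D.neg r) (-b)) * xU D r (-(u : F)) := by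
        rw [mul_inv_rev, hF.xU_inv hr, hF.xU_inv (hF.neg_lt hr)]; group
    _ = xU D r (u : F) * (xU D (D.neg r) b * xU D (D.neg r) b) * (hT D e * xU D r (-(u : F))) := by
        rw [e1]; group
    _ = xU D r (u : F) * xU D (D.neg r) (b + b) * xU D r (u : F) * hT D e := by
        rw [hF.xU_add (hF.neg_lt hr), e2]; group
    _ = _ := by
        rw [CfsgLib.Chev.nU, hb]
        congr 4
        field_simp
        ring

/-- The two root version: `n_a(u) n_b(v) d` is conjugate to `d`. -/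
theorem conj_two (h2 : (2 : F) ≠ 0) {a b : ℕ} (ha : a < D.nroots) (hb : b < D.nroots) (ho : Orth D a b)
    {e : ℕ → Fˣ} (hea : chiT D e a = -1) (heb : chiT D e b = -1) (u v : Fˣ) :
    ∃ y ∈ D.group F, y * hT D e * y⁻¹ = nU D a (u : F) * nU D b (v : F) * hT D e := by
  obtain ⟨y, hy, hyc, hye⟩ := conj_step hF h2 ha hea u
  obtain ⟨z, hz, hzc, hze⟩ := conj_step hF h2 hb heb v
  refine ⟨z * y, Subgroup.mul_mem _ hz hy, ?_⟩
  calc z * y * hT D e * (z * y)⁻¹ = z * (y * hT D e * y⁻¹) * z⁻¹ := by group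
    _ = (z * nU D a (u : F)) * hT D e * z⁻¹ := by rw [hye]; group
    _ = nU D a (u : F) * (z * hT D e * z⁻¹) := by
      rw [← (hzc _ (Orth.cent hF ho (u : F))).eq]; group
    _ = _ := by rw [hze]; group

/-- In characteristic not 2, an element of `SL(2)` inverting `w(v)`. -/
theorem exists_inverting [Finite F] {r : ℕ} (hr : r < D.nroots) (v : Fˣ) :
    ∃ y ∈ D.group F, (∀ m : GL D.Idx F, Cent D r m → Commute m y) ∧
      y * nU D r (v : F) * y⁻¹ = (nU D r (v : F))⁻¹ ∧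
      nU D r (v : F) * nU D r (v : F) = hU D r ((-1 : Fˣ) : F) := by
  haveI := Fintype.ofFinite F
  obtain ⟨φ, hφr, hφ⟩ := hF.exists_sl2Hom (F := F) hr
  obtain ⟨α, β, hαβ⟩ : ∃ α β : F, α ^ 2 + β ^ 2 + 1 = 0 := by
    obtain ⟨p, hp⟩ := CharP.exists F
    haveI := hp
    haveI : Fact p.Prime := ⟨CharP.char_is_prime F p⟩
    obtain ⟨x, y, hxy⟩ := CharP.sq_add_sq F p (-1)
    exact ⟨x, y, by rw [hxy]; simp⟩
  let W : SL(2, F) := ⟨!![0, (v : F); -(v : F)⁻¹, 0], by
    simp [Matrix.det_fin_two]⟩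
  let Y : SL(2, F) := ⟨!![α, β * v; β * (v : F)⁻¹, -α], by
    simp [Matrix.det_fin_two]; field_simp; linear_combination -hαβ⟩
  let up : F → SL(2, F) := upM
  let lo : F → SL(2, F) := fun t => ⟨!![1, 0; t, 1], by simp [Matrix.det_fin_two]⟩
  have hup : ∀ t : F, φ (up t) = xU D r t := fun t => (hF.eq_xU_iff hr).1 ((hφ _ t).1 rfl)
  have hlo : ∀ t : F, φ (lo t) = xU D (D.neg r) t := fun t =>
    (hF.eq_xU_iff (hF.neg_lt hr)).1 ((hφ _ t).2 rfl)
  have hW : W = up v * lo (-(v : F)⁻¹) * up v := by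
    refine Subtype.ext ?_
    simp only [Matrix.SpecialLinearGroup.coe_mul]
    show W.1 = (!![1, (v : F); 0, 1] * !![1, 0; -(v : F)⁻¹, 1]) * !![1, (v : F); 0, 1]
    ext i j
    fin_cases i <;> fin_cases j <;> simp [W, Matrix.mul_apply, Fin.sum_univ_two]
  have hφW : φ W = nU D r (v : F) := by
    rw [hW, map_mul, map_mul, hup, hlo]; rfl
  have hYW : Y * W * Y⁻¹ = W⁻¹ := by
    have : Y * W = W⁻¹ * Y := by
      refine Subtype.ext ?_
      simp only [Matrix.SpecialLinearGroup.coe_mul, Matrix.SpecialLinearGroup.coe_inv]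
      ext i j
      fin_cases i <;> fin_cases j <;>
        simp [W, Y, Matrix.adjugate_fin_two, Matrix.mul_apply, Fin.sum_univ_two] <;> field_simp
    rw [this, mul_inv_cancel_right]
  have hW1 : ∀ t : Fˣ, φ ⟨!![0, (t : F); -(t : F)⁻¹, 0], by simp [Matrix.det_fin_two]⟩ = nU D r (t : F) := by
    intro t
    have e : (⟨!![0, (t : F); -(t : F)⁻¹, 0], by simp [Matrix.det_fin_two]⟩ : SL(2, F)) =
        up t * lo (-(t : F)⁻¹) * up t := by
      refine Subtype.ext ?_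
      simp only [Matrix.SpecialLinearGroup.coe_mul]
      show _ = (!![1, (t : F); 0, 1] * !![1, 0; -(t : F)⁻¹, 1]) * !![1, (t : F); 0, 1]
      ext i j
      fin_cases i <;> fin_cases j <;> simp [Matrix.mul_apply, Fin.sum_univ_two]
    rw [e, map_mul, map_mul, hup, hlo]; rfl
  refine ⟨φ Y, ?_, fun m hm => ?_, ?_, ?_⟩
  · have h1 : φ Y ∈ φ.range := ⟨Y, rfl⟩
    rw [hφr] at h1
    refine (sup_le ?_ ?_ : _ ≤ D.group F) h1 <;> intro g hg
    · obtain ⟨t, rfl⟩ := (hF.mem_rootSubgroup_iff hr).1 hg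
      exact hF.xU_mem_group hr t
    · obtain ⟨t, rfl⟩ := (hF.mem_rootSubgroup_iff (hF.neg_lt hr)).1 hg
      exact hF.xU_mem_group (hF.neg_lt hr) t
  · have h1 : φ Y ∈ φ.range := ⟨Y, rfl⟩
    rw [hφr] at h1
    refine Commute.symm (Subgroup.mem_centralizer_singleton_iff.1
      ((sup_le ?_ ?_ : _ ≤ Subgroup.centralizer ({m} : Set (GL D.Idx F))) h1)) <;> intro g hg
    · obtain ⟨t, rfl⟩ := (hF.mem_rootSubgroup_iff hr).1 hg
      exact Subgroup.mem_centralizer_singleton_iff.2 (hm t).1.symm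
    · obtain ⟨t, rfl⟩ := (hF.mem_rootSubgroup_iff (hF.neg_lt hr)).1 hg
      exact Subgroup.mem_centralizer_singleton_iff.2 (hm t).2.symm
  · rw [← hφW, ← map_inv, ← map_inv φ W, ← map_mul, ← map_mul, hYW]
  · have a := hW1 1
    simp only [Units.val_one] at a
    rw [← hF.nU_sq hr, ← hφW, ← a]
    refine (map_mul φ _ _).symm.trans ((congrArg φ (Subtype.ext ?_)).trans (map_mul φ _ _))
    show W.1 * W.1 = (!![0, 1; -(1 : F)⁻¹, 0] : Matrix (Fin 2) (Fin 2) F) * !![0, 1; -(1 : F)⁻¹, 0]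
    ext i j
    fin_cases i <;> fin_cases j <;> simp [W, Matrix.mul_apply, Fin.sum_univ_two]

end CfsgLib.Chev.Invol
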