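/-
The involutions of G2(q), q odd, form one class.
-/
import Mathlib
import Cfsg.Agent.Lib.Chev.Invol.Mono
import Cfsg.Agent.Lib.Chev.Invol.Pair
import Cfsg.Agent.Lib.Chev.Data.G2
import Cfsg.Agent.Lib.Chev.All

set_option autoImplicit false
set_option maxRecDepth 10000

namespace CfsgLib.Chev.Invol.G2

open Cfsg.Lie CfsgLib.Chev CfsgLib.Chev.Invol CfsgLib.Known.ChevSinger

universe u

theorem facts : Facts chevG2 DataG2.co := DataG2.facts

/-- The first fundamental reflection index. -/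
abbrev I0 : Fin chevG2.rank := ⟨0, by decide⟩
/-- The second fundamental reflection index. -/
abbrev I1 : Fin chevG2.rank := ⟨1, by decide⟩

/-- A word acting on root numbers. -/
def pv (l : List (Fin chevG2.rank)) (s : ℕ) : ℕ := l.foldr (fun i r => chevG2.reflectRoot i.val r) s

theorem sW_val : ∀ (l : List (Fin chevG2.rank)) (s : Fin chevG2.nroots), (sW chevG2 l s).val = pv l s.val
  | [], s => rfl
  | j :: l, s => by
    rw [sW_cons, Equiv.Perm.mul_apply, facts.sP_val, sW_val l s]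
    rfl

theorem sW_ext {l m : List (Fin chevG2.rank)} (h : ∀ s : Fin chevG2.nroots, pv l s.val = pv m s.val) :
    sW chevG2 l = sW chevG2 m :=
  Equiv.ext fun s => Fin.ext (by rw [sW_val, sW_val]; exact h s)

/-- The longest word. -/
abbrev w0 : List (Fin chevG2.rank) := [I0, I1, I0, I1, I0, I1]

/-- The twelve alternating words. -/
def can : List (List (Fin chevG2.rank)) :=
  [[], [I0], [I1], [I0, I1], [I1, I0], [I0, I1, I0], [I1, I0, I1], [I0, I1, I0, I1], [I1, I0, I1, I0],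
   [I0, I1, I0, I1, I0], [I1, I0, I1, I0, I1], w0]

theorem can_step : ∀ j : Fin chevG2.rank, ∀ m ∈ can, ∃ m' ∈ can,
    ∀ s : Fin chevG2.nroots, pv (j :: m) s.val = pv m' s.val := by decide +kernel

theorem reduce : ∀ l : List (Fin chevG2.rank), ∃ m ∈ can, sW chevG2 l = sW chevG2 m
  | [] => ⟨[], by simp [can], rfl⟩
  | j :: l => by
    obtain ⟨m, hm, e⟩ := reduce l
    obtain ⟨m', hm', h⟩ := can_step j m hm
    refine ⟨m', hm', ?_⟩
    rw [sW_cons, e, ← sW_cons]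
    exact sW_ext h

theorem can_invol : ∀ m ∈ can, (∀ s : Fin chevG2.nroots, pv m (pv m s.val) = s.val) →
    ∃ k ∈ can, ∃ t ∈ [[], [I0], [I1], w0], ∀ s : Fin chevG2.nroots,
      pv (k ++ m ++ k.reverse) s.val = pv t s.val := by decide +kernel

theorem simple_val : chevG2.simple 0 = 7 ∧ chevG2.simple 1 = 6 := by decide +kernel

theorem cartan_val : chevG2.cartan 0 6 = -3 ∧ chevG2.cartan 1 6 = 2 ∧ chevG2.cartan 0 7 = 2 ∧
    chevG2.cartan 1 7 = -1 ∧ prE chevG2 7 6 = -3 ∧ prE chevG2 6 7 = -1 ∧ prE chevG2 9 7 = 1 ∧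
    chevG2.cartan 0 (chevG2.reflectRoot 0 6) = 3 ∧ chevG2.cartan 1 (chevG2.reflectRoot 0 6) = -1 ∧
    chevG2.cartan 0 (chevG2.reflectRoot 1 7) = -1 ∧ chevG2.cartan 1 (chevG2.reflectRoot 1 7) = 1 := by
  decide +kernel

/-- The three pairs of orthogonal roots. -/
def pairs : List (ℕ × ℕ) := [(6, 9), (7, 11), (8, 10)]

theorem pairs_spec : ∀ p ∈ pairs, p.1 < chevG2.nroots ∧ p.2 < chevG2.nroots ∧ Orth chevG2 p.1 p.2 ∧
    (∃ k ∈ can, ∃ i : Fin chevG2.rank, ∃ k' ∈ can, ∃ i' : Fin chevG2.rank,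
      pv k (chevG2.simple i.val) = p.1 ∧ pv k' (chevG2.simple i'.val) = p.2 ∧
      ∀ s : Fin chevG2.nroots, pv ((k ++ i :: k.reverse) ++ (k' ++ i' :: k'.reverse)) s.val = pv w0 s.val) ∧
    (chevG2.cartan 0 p.1 + chevG2.cartan 0 p.2) % 2 = 0 ∧
    (chevG2.cartan 1 p.1 + chevG2.cartan 1 p.2) % 2 = 0 := by decide +kernel

variable {F : Type u} [Field F]

theorem chiT_eq (c : ℕ → Fˣ) (r : ℕ) :
    chiT chevG2 c r = c 0 ^ chevG2.cartan 0 r * c 1 ^ chevG2.cartan 1 r := by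
  rw [chiT, show chevG2.rank = 2 from by decide, Finset.prod_range_succ, Finset.prod_range_one]

theorem permAct_nU {k : List (Fin chevG2.rank)} {i : Fin chevG2.rank} {r : ℕ}
    (h : pv k (chevG2.simple i.val) = r) :
    PermAct (nU chevG2 r (1 : F)) (sW chevG2 (k ++ i :: k.reverse)) := by
  obtain ⟨e, he, hc⟩ := facts.nW_conj_nU (F := F) k (facts.simpleFin i)
  have h1 := hc 1
  rw [sW_val, show (facts.simpleFin i).val = chevG2.simple i.val from rfl, h, mul_one] at h1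
  have hmk : nW chevG2 F k ∈ chevG2.monomialSubgroup F := facts.nW_mem k
  have h2 : PermAct (nW chevG2 F k * nS chevG2 F i * (nW chevG2 F k)⁻¹) (sW chevG2 (k ++ i :: k.reverse)) := by
    rw [sW_append, sW_cons, facts.sW_reverse, ← mul_assoc]
    exact facts.permAct_mul (facts.permAct_mul (facts.permAct_nW k) (facts.permAct_nS i))
      (facts.permAct_inv hmk (facts.permAct_nW k))
  rw [nS, h1] at h2
  rcases he with rfl | rfl
  · simpa using h2
  · have hr : r < chevG2.nroots := h ▸ (sW_val k (facts.simpleFin i)) ▸ (sW chevG2 k (facts.simpleFin i)).isLt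
    have h3 : PermAct (nU chevG2 r ((((-1 : ℤ)) : F)))⁻¹ (sW chevG2 (k ++ i :: k.reverse))⁻¹ := by
      refine facts.permAct_inv ?_ h2
      rw [← h1]
      exact Subgroup.mul_mem _ (Subgroup.mul_mem _ hmk (facts.nS_mem i)) (Subgroup.inv_mem _ hmk)
    rw [facts.nU_inv hr, Int.cast_neg, Int.cast_one, neg_neg, ← facts.sW_reverse] at h3
    simpa [List.reverse_append] using h3

theorem nU_mem_mono {r : ℕ} (hr : r < chevG2.nroots) {t : F} (ht : t ≠ 0) :
    nU chevG2 r t ∈ chevG2.monomialSubgroup F := by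
  rw [nU_eq_hU_mul facts hr]
  exact Subgroup.mul_mem _ (Subgroup.mem_sup_left (facts.hU_mem_diagonal hr ht))
    (facts.nU_mem_monomial hr)

/-- `n_a(1) n_b(1)` for a pair. -/
noncomputable def NN (F : Type u) [Field F] (p : ℕ × ℕ) : GL chevG2.Idx F := nU chevG2 p.1 1 * nU chevG2 p.2 1

theorem NN_mem {p : ℕ × ℕ} (hp : p ∈ pairs) : NN F p ∈ chevG2.monomialSubgroup F :=
  Subgroup.mul_mem _ (nU_mem_mono (pairs_spec p hp).1 one_ne_zero) (nU_mem_mono (pairs_spec p hp).2.1 one_ne_zero)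

theorem permAct_NN {p : ℕ × ℕ} (hp : p ∈ pairs) : PermAct (NN F p) (sW chevG2 w0) := by
  obtain ⟨-, -, -, ⟨k, -, i, k', -, i', e, e', h⟩, -⟩ := pairs_spec p hp
  rw [← sW_ext h, sW_append]
  exact facts.permAct_mul (permAct_nU e) (permAct_nU e')

/-- The integral matrix of `n_r(1)`. -/
def nInt (r : ℕ) : Matrix chevG2.Idx chevG2.Idx ℤ :=
  xR chevG2 r 1 * xR chevG2 (chevG2.neg r) (-1) * xR chevG2 r 1

theorem nU_one_val {r : ℕ} (hr : r < chevG2.nroots) :
    ((nU chevG2 r (1 : F) : GL chevG2.Idx F) : Matrix chevG2.Idx chevG2.Idx F) =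
      (nInt r).map (Int.castRingHom F) := by
  rw [CfsgLib.Chev.nU, Units.val_mul, Units.val_mul, facts.xU_val' hr, facts.xU_val' (facts.neg_lt hr),
    inv_one, nInt, Matrix.map_mul, Matrix.map_mul, xR_map, xR_map, map_one, map_neg, map_one]

theorem entry_check : ∀ p ∈ [((7, 11) : ℕ × ℕ), (8, 10)],
    ∀ t u : Fin chevG2.nroots, t.val = chevG2.neg p.1 → u.val = p.1 →
      (nInt p.1 * nInt p.2) (Sum.inr t) (Sum.inr u) = -1 ∧
      (nInt 6 * nInt 9) (Sum.inr t) (Sum.inr u) = 1 := by decide +kernel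

/-- The change of pair. -/
theorem exists_eta {p : ℕ × ℕ} (hp : p ∈ [((7, 11) : ℕ × ℕ), (8, 10)]) :
    ∃ e : ℕ → Fˣ, NN F (6, 9) = NN F p * hT chevG2 e ∧ chiT chevG2 e p.1 = -1 := by
  have hp' : p ∈ pairs := List.mem_cons_of_mem _ hp
  obtain ⟨h1, h2, -⟩ := pairs_spec p hp'
  have h69 : ((6, 9) : ℕ × ℕ) ∈ pairs := List.mem_cons_self
  have hd : (NN F p)⁻¹ * NN F (6, 9) ∈ chevG2.diagonalSubgroup F := by
    refine facts.mem_diagonal_of_permAct (Subgroup.mul_mem _ (Subgroup.inv_mem _ (NN_mem hp')) (NN_mem h69)) ?_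
    have := facts.permAct_mul (facts.permAct_inv (NN_mem hp') (permAct_NN (F := F) hp')) (permAct_NN h69)
    rwa [inv_mul_cancel] at this
  obtain ⟨e, he⟩ := facts.mem_diagonal_iff.1 hd
  refine ⟨e, by rw [← he, mul_inv_cancel_left], ?_⟩
  have h := h1
  have h' := facts.neg_lt h1
  obtain ⟨e1, e2⟩ := entry_check p hp ⟨_, h'⟩ ⟨_, h⟩ rfl rfl
  have h6 : 6 < chevG2.nroots := by decide
  have h9 : 9 < chevG2.nroots := by decide
  have key : ((NN F (6, 9) : GL chevG2.Idx F) : Matrix chevG2.Idx chevG2.Idx F) (Sum.inr ⟨_, h'⟩) (Sum.inr ⟨_, h⟩) =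
      ((NN F p : GL chevG2.Idx F) : Matrix chevG2.Idx chevG2.Idx F) (Sum.inr ⟨_, h'⟩) (Sum.inr ⟨_, h⟩) *
        (chiT chevG2 e p.1 : F) := by
    rw [show NN F (6, 9) = NN F p * hT chevG2 e by rw [← he, mul_inv_cancel_left], Units.val_mul,
      hT_eq_dU, dU_val, diagC, Matrix.mul_diagonal]
    rfl
  rw [NN, NN, Units.val_mul, Units.val_mul, nU_one_val h6, nU_one_val h9, nU_one_val h1, nU_one_val h2,
    ← Matrix.map_mul, ← Matrix.map_mul, Matrix.map_apply, Matrix.map_apply, e1, e2, map_neg, map_one] at key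
  refine Units.ext ?_
  rw [Units.val_neg, Units.val_one]
  linear_combination key

section Finite

variable [Finite F]

/-- A monomial involution of the longest Weyl type with two squares is conjugate into the torus. -/
theorem good_pair (hodd : (2 : F) ≠ 0) {p : ℕ × ℕ} (hp : p ∈ pairs) {c : ℕ → Fˣ}
    (hs2 : NN F p * hT chevG2 c * (NN F p * hT chevG2 c) = 1)
    (hsq : IsSquare (-chiT chevG2 c p.1)) :
    ∃ k ∈ chevG2.group F, k * (NN F p * hT chevG2 c) * k⁻¹ ∈ chevG2.diagonalSubgroup F := by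
  obtain ⟨ha, hb, ho, -, hc0, hc1⟩ := pairs_spec p hp
  obtain ⟨w, hw⟩ := hsq
  obtain ⟨k0, hk0⟩ : ∃ k, chevG2.cartan 0 p.2 = chevG2.cartan 0 p.1 + 2 * k :=
    ⟨(chevG2.cartan 0 p.2 - chevG2.cartan 0 p.1) / 2, by omega⟩
  obtain ⟨k1, hk1⟩ : ∃ k, chevG2.cartan 1 p.2 = chevG2.cartan 1 p.1 + 2 * k :=
    ⟨(chevG2.cartan 1 p.2 - chevG2.cartan 1 p.1) / 2, by omega⟩
  set g : Fˣ := c 0 ^ k0 * c 1 ^ k1 with hg
  have hrel : chiT chevG2 c p.2 = chiT chevG2 c p.1 * g ^ 2 := by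
    rw [chiT_eq, chiT_eq, hk0, hk1, hg, two_mul, two_mul, zpow_add, zpow_add, zpow_add, zpow_add, sq,
      mul_mul_mul_comm _ (c 1 ^ k1), mul_mul_mul_comm]
  have hA : chiT chevG2 c p.1 = -(w * w) := by rw [← hw, neg_neg]
  set u : Fˣ := w⁻¹ with hu
  set v : Fˣ := w⁻¹ * g⁻¹ with hv
  set m := nU chevG2 p.1 (u : F) * nU chevG2 p.2 (v : F) with hm
  set s := NN F p * hT chevG2 c with hs
  have hmono : nU chevG2 p.1 (u : F) ∈ chevG2.monomialSubgroup F ∧ nU chevG2 p.2 (v : F) ∈ chevG2.monomialSubgroup F :=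
    ⟨nU_mem_mono ha u.ne_zero, nU_mem_mono hb v.ne_zero⟩
  have hn1 := nU_mem_mono (F := F) hb one_ne_zero
  have hn0 := nU_mem_mono (F := F) ha one_ne_zero
  have hd : m⁻¹ * s ∈ chevG2.diagonalSubgroup F := by
    have e : m⁻¹ * s = ((nU chevG2 p.2 1)⁻¹ * (hU chevG2 p.2 (v : F))⁻¹ * nU chevG2 p.2 1) *
        ((nU chevG2 p.2 1)⁻¹ * ((nU chevG2 p.1 1)⁻¹ * (hU chevG2 p.1 (u : F))⁻¹ * nU chevG2 p.1 1) *
          nU chevG2 p.2 1) * hT chevG2 c := by
      rw [hm, hs, NN, nU_eq_hU_mul facts ha, nU_eq_hU_mul facts hb]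
      group
    rw [e]
    have cj : ∀ {n x : GL chevG2.Idx F}, n ∈ chevG2.monomialSubgroup F → x ∈ chevG2.diagonalSubgroup F →
        n⁻¹ * x * n ∈ chevG2.diagonalSubgroup F := fun hn hx => by
      have := monomial_conj_diag facts (Subgroup.inv_mem _ hn) hx
      rwa [inv_inv] at this
    exact Subgroup.mul_mem _ (Subgroup.mul_mem _
      (cj hn1 (Subgroup.inv_mem _ (facts.hU_mem_diagonal hb v.ne_zero)))
      (cj hn1 (cj hn0 (Subgroup.inv_mem _ (facts.hU_mem_diagonal ha u.ne_zero)))))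
      (facts.mem_diagonal_iff.2 ⟨c, rfl⟩)
  obtain ⟨e, he⟩ := facts.mem_diagonal_iff.1 hd
  have hea : chiT chevG2 e p.1 = -1 := by
    have h := act_root facts ha (Orth.cent' facts ho (1 : F)) (Orth.cent' facts ho (v : F)) c u 1
    rw [← NN, ← hs, ← hm, he, facts.hT_conj_xU e ha] at h
    have h' := facts.xU_left_inj ha h
    rw [mul_one, mul_one] at h'
    refine Units.ext ?_
    change (chiT chevG2 e p.1 : F) = _ at h'
    rw [h', hA, hu]
    push_cast
    field_simp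
  have heb : chiT chevG2 e p.2 = -1 := by
    have h := act_root facts hb (Orth.cent facts ho (1 : F)) (Orth.cent facts ho (u : F)) c v 1
    have hcomm : ∀ x y : F, nU chevG2 p.2 x * nU chevG2 p.1 y = nU chevG2 p.1 y * nU chevG2 p.2 x :=
      fun x y => ((Orth.cent facts ho y).nU x).eq.symm
    rw [hcomm, hcomm, ← NN, ← hs, ← hm, he, facts.hT_conj_xU e hb] at h
    have h' := facts.xU_left_inj hb h
    rw [mul_one, mul_one] at h'
    refine Units.ext ?_
    change (chiT chevG2 e p.2 : F) = _ at h'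
    rw [h', hrel, hA, hv]
    push_cast
    field_simp
  obtain ⟨y, hy, hye⟩ := conj_two facts hodd ha hb ho hea heb u v
  refine ⟨y⁻¹, Subgroup.inv_mem _ hy, ?_⟩
  rw [← hm, ← he, mul_inv_cancel_left] at hye
  rw [← hye, inv_inv, show y⁻¹ * (y * (m⁻¹ * s) * y⁻¹) * y = m⁻¹ * s by group]
  exact hd

/-- The reflection case. -/
theorem good_simple (hodd : (2 : F) ≠ 0) {i : Fin chevG2.rank} {c : ℕ → Fˣ}
    (hsq : IsSquare (-chiT chevG2 c (chevG2.simple i.val))) :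
    ∃ k ∈ chevG2.group F, k * (nS chevG2 F i * hT chevG2 c) * k⁻¹ ∈ chevG2.diagonalSubgroup F := by
  have hr := facts.simple_lt' i.isLt
  set r := chevG2.simple i.val
  obtain ⟨w, hw⟩ := hsq
  have hA : chiT chevG2 c r = -(w * w) := by rw [← hw, neg_neg]
  set s := nS chevG2 F i * hT chevG2 c with hs
  have hd : (nU chevG2 r ((w⁻¹ : Fˣ) : F))⁻¹ * s ∈ chevG2.diagonalSubgroup F := by
    rw [hs, nS, nU_eq_hU_mul facts hr, ← mul_assoc, mul_inv_rev]
    refine Subgroup.mul_mem _ ?_ (facts.mem_diagonal_iff.2 ⟨c, rfl⟩)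
    have := monomial_conj_diag facts (Subgroup.inv_mem _ (nU_mem_mono (F := F) hr one_ne_zero))
      (Subgroup.inv_mem _ (facts.hU_mem_diagonal hr (w⁻¹).ne_zero))
    rwa [inv_inv] at this
  obtain ⟨e, he⟩ := facts.mem_diagonal_iff.1 hd
  have hea : chiT chevG2 e r = -1 := by
    have h := act_root facts hr Cent.one Cent.one c w⁻¹ 1
    simp only [mul_one] at h
    change (nU chevG2 r ((w⁻¹ : Fˣ) : F))⁻¹ * s * _ * ((nU chevG2 r ((w⁻¹ : Fˣ) : F))⁻¹ * s)⁻¹ = _ at h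
    rw [he, facts.hT_conj_xU e hr] at h
    have h' := facts.xU_left_inj hr h
    rw [mul_one] at h'
    refine Units.ext ?_
    change (chiT chevG2 e r : F) = _ at h'
    rw [h', hA]
    push_cast
    field_simp
  obtain ⟨y, hy, -, hye⟩ := conj_step facts hodd hr hea w⁻¹
  refine ⟨y⁻¹, Subgroup.inv_mem _ hy, ?_⟩
  rw [← he, mul_inv_cancel_left] at hye
  rw [← hye, inv_inv, show ∀ d : GL chevG2.Idx F, y⁻¹ * (y * d * y⁻¹) * y = d from fun d => by group]
  exact hd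

theorem sq_dichotomy (hodd : (2 : F) ≠ 0) {x y : Fˣ} (hx : ¬ IsSquare x) (hy : ¬ IsSquare y) :
    IsSquare (x * y) := by
  classical
  haveI := Fintype.ofFinite F
  have hF : ringChar F ≠ 2 := fun h => hodd (by
    haveI : CharP F 2 := h ▸ ringChar.charP F
    exact_mod_cast CharP.cast_eq_zero F 2)
  have key : ∀ z : Fˣ, IsSquare z ↔ quadraticChar F (z : F) = 1 := by
    intro z
    rw [quadraticChar_one_iff_isSquare z.ne_zero]
    refine ⟨fun ⟨a, ha⟩ => ⟨a, by rw [ha, Units.val_mul]⟩, fun ⟨a, ha⟩ => ?_⟩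
    have ha0 : a ≠ 0 := fun h => z.ne_zero (by rw [ha, h, mul_zero])
    exact ⟨Units.mk0 a ha0, Units.ext (by rw [ha]; simp)⟩
  rw [key] at hx hy ⊢
  rw [Units.val_mul, map_mul, (quadraticChar_dichotomy x.ne_zero).resolve_left hx,
    (quadraticChar_dichotomy y.ne_zero).resolve_left hy]
  norm_num

theorem w0_case (hodd : (2 : F) ≠ 0) {c : ℕ → Fˣ}
    (hs2 : NN F (6, 9) * hT chevG2 c * (NN F (6, 9) * hT chevG2 c) = 1) :
    ∃ k ∈ chevG2.group F, k * (NN F (6, 9) * hT chevG2 c) * k⁻¹ ∈ chevG2.diagonalSubgroup F := by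
  have h69 : ((6, 9) : ℕ × ℕ) ∈ pairs := List.mem_cons_self
  -- passing to another pair
  have other : ∀ {p : ℕ × ℕ}, p ∈ [((7, 11) : ℕ × ℕ), (8, 10)] → ∀ {d : ℕ → Fˣ},
      NN F (6, 9) * hT chevG2 d * (NN F (6, 9) * hT chevG2 d) = 1 → IsSquare (chiT chevG2 d p.1) →
      ∃ k ∈ chevG2.group F, k * (NN F (6, 9) * hT chevG2 d) * k⁻¹ ∈ chevG2.diagonalSubgroup F := by
    intro p hp d hd2 hd
    obtain ⟨e, he, hem⟩ := exists_eta (F := F) hp
    have h1 : NN F (6, 9) * hT chevG2 d = NN F p * hT chevG2 (fun i => e i * d i) := by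
      rw [facts.hT_mul, ← mul_assoc, ← he]
    rw [h1] at hd2 ⊢
    refine good_pair hodd (List.mem_cons_of_mem _ hp) hd2 ?_
    rwa [chiT_eq, mul_zpow, mul_zpow, mul_mul_mul_comm, ← chiT_eq, ← chiT_eq, hem, neg_one_mul, neg_neg]
  have hABC : IsSquare (chiT chevG2 c 6 * chiT chevG2 c 7 * chiT chevG2 c 8) := by
    have hh : (chevG2.cartan 0 6 + chevG2.cartan 0 7 + chevG2.cartan 0 8) % 2 = 0 ∧
        (chevG2.cartan 1 6 + chevG2.cartan 1 7 + chevG2.cartan 1 8) % 2 = 0 := by decide +kernel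
    obtain ⟨k, hk⟩ : (2 : ℤ) ∣ chevG2.cartan 0 6 + chevG2.cartan 0 7 + chevG2.cartan 0 8 := by omega
    obtain ⟨l, hl⟩ : (2 : ℤ) ∣ chevG2.cartan 1 6 + chevG2.cartan 1 7 + chevG2.cartan 1 8 := by omega
    refine ⟨c 0 ^ k * c 1 ^ l, ?_⟩
    have e : ∀ a b d e f g : ℤ, c 0 ^ a * c 1 ^ b * (c 0 ^ d * c 1 ^ e) * (c 0 ^ f * c 1 ^ g) =
        c 0 ^ (a + d + f) * c 1 ^ (b + e + g) := fun a b d e f g => by
      simp only [zpow_add, mul_assoc, mul_comm, mul_left_comm]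
    rw [chiT_eq, chiT_eq, chiT_eq, e, hk, hl, two_mul, two_mul, zpow_add, zpow_add, mul_mul_mul_comm]
  by_cases hA : IsSquare (-chiT chevG2 c 6)
  · exact good_pair hodd h69 hs2 hA
  by_cases hB : IsSquare (chiT chevG2 c 7)
  · exact other (p := (7, 11)) (by simp) hs2 hB
  by_cases hC : IsSquare (chiT chevG2 c 8)
  · exact other (p := (8, 10)) (by simp) hs2 hC
  -- all three fail
  have hA6 : IsSquare (chiT chevG2 c 6) := by
    obtain ⟨a, ha⟩ := hABC
    obtain ⟨b, hb⟩ := sq_dichotomy hodd hB hC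
    rw [mul_assoc, hb] at ha
    exact ⟨a * b⁻¹, by rw [mul_mul_mul_comm, ← ha, mul_assoc, ← mul_inv, mul_inv_cancel, mul_one]⟩
  obtain ⟨w, hw⟩ := hA6
  have hm1 : ¬ IsSquare (-1 : Fˣ) := fun ⟨i, hi⟩ =>
    hA ⟨i * w, by rw [mul_mul_mul_comm, ← hi, hw, neg_one_mul]⟩
  obtain ⟨h6, h9, ho, -, hc0, hc1⟩ := pairs_spec _ h69
  simp only at h6 h9 ho hc0 hc1
  -- the second factor with character a square
  obtain ⟨g, hg⟩ : ∃ g : Fˣ, chiT chevG2 c 9 = g * g := by
    obtain ⟨k0, hk0⟩ : ∃ k, chevG2.cartan 0 9 = chevG2.cartan 0 6 + 2 * k :=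
      ⟨(chevG2.cartan 0 9 - chevG2.cartan 0 6) / 2, by omega⟩
    obtain ⟨k1, hk1⟩ : ∃ k, chevG2.cartan 1 9 = chevG2.cartan 1 6 + 2 * k :=
      ⟨(chevG2.cartan 1 9 - chevG2.cartan 1 6) / 2, by omega⟩
    refine ⟨w * (c 0 ^ k0 * c 1 ^ k1), ?_⟩
    rw [mul_mul_mul_comm, ← hw, chiT_eq, chiT_eq, hk0, hk1, two_mul, two_mul, zpow_add, zpow_add,
      zpow_add, zpow_add, mul_mul_mul_comm _ (c 1 ^ k1), mul_mul_mul_comm]
  set v : Fˣ := g⁻¹ with hv
  set s := NN F (6, 9) * hT chevG2 c with hs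
  -- `s = n_b(v) n_a(1) d`
  set m := nU chevG2 9 (v : F) * nU chevG2 6 1 with hm
  have hcomm : ∀ x y : F, nU chevG2 9 x * nU chevG2 6 y = nU chevG2 6 y * nU chevG2 9 x :=
    fun x y => ((Orth.cent facts ho y).nU x).eq.symm
  have hd : m⁻¹ * s ∈ chevG2.diagonalSubgroup F := by
    have e : m⁻¹ * s = ((nU chevG2 9 1)⁻¹ * (hU chevG2 9 (v : F))⁻¹ * nU chevG2 9 1) * hT chevG2 c := by
      rw [hm, hs, NN, hcomm, nU_eq_hU_mul facts h9 (v : F)]
      group
    rw [e]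
    refine Subgroup.mul_mem _ ?_ (facts.mem_diagonal_iff.2 ⟨c, rfl⟩)
    have := monomial_conj_diag facts (Subgroup.inv_mem _ (nU_mem_mono (F := F) h9 one_ne_zero))
      (Subgroup.inv_mem _ (facts.hU_mem_diagonal h9 v.ne_zero))
    rwa [inv_inv] at this
  obtain ⟨e, he⟩ := facts.mem_diagonal_iff.1 hd
  have heb : chiT chevG2 e 9 = 1 := by
    have h := act_root facts h9 (Orth.cent facts ho (1 : F)) (Orth.cent facts ho (1 : F)) c v 1
    rw [hcomm (1 : F) 1, ← hm, show nU chevG2 6 (1 : F) * nU chevG2 9 1 = NN F (6, 9) from rfl, ← hs, he, facts.hT_conj_xU e h9] at h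
    have h' := facts.xU_left_inj h9 h
    rw [mul_one, mul_one] at h'
    refine Units.ext ?_
    change (chiT chevG2 e 9 : F) = _ at h'
    rw [h', hg, hv]
    push_cast
    field_simp
  obtain ⟨y, hy, hyc, hye, hsq⟩ := exists_inverting facts h9 v
  have hyd : Commute (hT chevG2 e) y := hyc _ (cent_of_chi facts h9 heb)
  have hya : Commute (nU chevG2 6 (1 : F)) y := hyc _ (Orth.cent facts ho _)
  have hys : y * s * y⁻¹ = (hU chevG2 9 ((-1 : Fˣ) : F))⁻¹ * s := by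
    have e1 : s = nU chevG2 9 (v : F) * nU chevG2 6 1 * hT chevG2 e := by
      rw [← he, ← hm, mul_inv_cancel_left]
    calc y * s * y⁻¹ = (y * nU chevG2 9 (v : F) * y⁻¹) * (y * nU chevG2 6 1 * y⁻¹) * (y * hT chevG2 e * y⁻¹) := by
          rw [e1]; group
      _ = (nU chevG2 9 (v : F))⁻¹ * nU chevG2 6 1 * hT chevG2 e := by
          rw [hye, ← hya.eq, mul_inv_cancel_right, ← hyd.eq, mul_inv_cancel_right]
      _ = _ := by rw [e1, ← hsq]; group
  -- `h_b(-1)` commutes with `n_a(1) n_b(1)`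
  have hcz : Commute (hU chevG2 9 ((-1 : Fˣ) : F))⁻¹ (NN F (6, 9)) := by
    refine Commute.inv_left ?_
    rw [← facts.nU_sq h9]
    refine Commute.mul_right ?_ ((Commute.refl _).mul_left (Commute.refl _))
    exact ((Orth.cent facts ho (1 : F)).nU 1).symm.mul_left ((Orth.cent facts ho (1 : F)).nU 1).symm
  obtain ⟨e', he'⟩ := facts.mem_diagonal_iff.1 (Subgroup.inv_mem _ (facts.hU_mem_diagonal h9 ((-1 : Fˣ)).ne_zero))
  have he7 : chiT chevG2 e' 7 = -1 := by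
    have h := facts.hT_conj_xU e' (show 7 < chevG2.nroots by decide) (1 : F)
    rw [← he', inv_inv] at h
    have h2 := facts.hU_conj_xU h9 (show 7 < chevG2.nroots by decide) (-1 : Fˣ)
      ((chiT chevG2 e' 7 : F) * 1)
    change _ = xU chevG2 7 ((chiT chevG2 e' 7 : F) * 1) at h
    rw [← h, cartan_val.2.2.2.2.2.2.1] at h2
    have h3 : xU chevG2 7 (1 : F) = xU chevG2 7 (-(chiT chevG2 e' 7 : F)) := by
      refine Eq.trans ?_ (h2.trans ?_)
      · group
      · rw [zpow_one, Units.val_neg, Units.val_one, neg_one_mul, mul_one]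
    refine Units.ext ?_
    rw [Units.val_neg, Units.val_one]
    linear_combination (facts.xU_left_inj (show 7 < chevG2.nroots by decide) h3)
  have hs' : y * s * y⁻¹ = NN F (6, 9) * hT chevG2 (fun i => e' i * c i) := by
    rw [hys, hs, ← mul_assoc, hcz.eq, mul_assoc, facts.hT_mul, ← he']
  have hs2' : NN F (6, 9) * hT chevG2 (fun i => e' i * c i) * (NN F (6, 9) * hT chevG2 (fun i => e' i * c i)) = 1 := by
    rw [← hs']
    calc y * s * y⁻¹ * (y * s * y⁻¹) = y * (s * s) * y⁻¹ := by group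
      _ = 1 := by rw [hs2]; group
  obtain ⟨k, hk, hkd⟩ := other (p := (7, 11)) (by simp) hs2' (by
    rw [chiT_eq, mul_zpow, mul_zpow, mul_mul_mul_comm, ← chiT_eq, ← chiT_eq, he7, neg_one_mul]
    have := sq_dichotomy hodd hm1 hB
    rwa [neg_one_mul] at this)
  refine ⟨k * y, Subgroup.mul_mem _ hk hy, ?_⟩
  rw [show k * y * s * (k * y)⁻¹ = k * (y * s * y⁻¹) * k⁻¹ by group, hs']
  exact hkd

end Finite

end CfsgLib.Chev.Invol.G2
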