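/-
Every involution of G2(q), q odd, is conjugate to `h(-1)`.
-/
import Mathlib
import Cfsg.Agent.Lib.Chev.Invol.G2

set_option autoImplicit false
set_option maxRecDepth 10000

namespace CfsgLib.Chev.Invol.G2

open Cfsg.Lie CfsgLib.Chev CfsgLib.Chev.Invol CfsgLib.Known.ChevSinger

universe u

variable {F : Type u} [Field F]

theorem two_ne_zero_of_odd [Finite F] (h : Odd (Nat.card F)) : (2 : F) ≠ 0 := by
  haveI := Fintype.ofFinite F
  refine Ring.two_ne_zero (fun h2 => ?_)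
  have := FiniteField.even_card_of_char_two h2
  rw [Nat.card_eq_fintype_card, Nat.odd_iff] at h
  omega

/-- The standard involution. -/
noncomputable def tInv (F : Type u) [Field F] : GL chevG2.Idx F := hU chevG2 6 ((-1 : Fˣ) : F)

theorem tInv_eq : tInv F = dU chevG2 (prChar chevG2 6 (-1 : Fˣ)) := facts.hU_eq (by decide) _

theorem tInv_hT : tInv F = hT chevG2 (fun i => (-1 : Fˣ) ^ cor chevG2 6 i) := facts.hU_eq_hT (by decide) _

theorem hT_ext {c d : ℕ → Fˣ} (h0 : chiT chevG2 c 7 = chiT chevG2 d 7) (h1 : chiT chevG2 c 6 = chiT chevG2 d 6) :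
    hT chevG2 c = hT chevG2 d := by
  have e : torHom chevG2 c = torHom chevG2 d := by
    refine AddMonoidHom.ext fun v => ?_
    show ∑ q : Fin chevG2.rank, v q • Additive.ofMul (chiT chevG2 c (chevG2.simple q.val)) =
      ∑ q : Fin chevG2.rank, v q • Additive.ofMul (chiT chevG2 d (chevG2.simple q.val))
    refine Finset.sum_congr rfl fun q _ => ?_
    have hq : q.val = 0 ∨ q.val = 1 := by
      have h2 : chevG2.rank = 2 := by decide
      have := q.isLt
      omega
    rcases hq with hq | hq <;> rw [hq]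
    · rw [simple_val.1, h0]
    · rw [simple_val.2, h1]
  rw [hT_eq_dU, hT_eq_dU]
  refine dU_congr fun s hs => Additive.ofMul.injective ?_
  rw [← torHom_coV facts c hs, ← torHom_coV facts d hs, e]

theorem chiT_of_hT_eq {c d : ℕ → Fˣ} (h : hT chevG2 c = hT chevG2 d) {r : ℕ} (hr : r < chevG2.nroots) :
    chiT chevG2 c r = chiT chevG2 d r := chiT_eq_of_hT h hr

theorem nS_hT_chi (i : Fin chevG2.rank) {c c' : ℕ → Fˣ}
    (h : nS chevG2 F i * hT chevG2 c * (nS chevG2 F i)⁻¹ = hT chevG2 c') {r : ℕ} (hr : r < chevG2.nroots) :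
    chiT chevG2 c' r = chiT chevG2 c (chevG2.reflectRoot i.val r) := by
  rw [nS, hT_eq_dU, facts.nU_simple_conj_dU i.isLt, hT_eq_dU] at h
  have := congrArg (fun g : GL chevG2.Idx F => (g : Matrix chevG2.Idx chevG2.Idx F) (Sum.inr ⟨r, hr⟩) (Sum.inr ⟨r, hr⟩)) h
  simp only [dU_val, diagC, Matrix.diagonal_apply_eq] at this
  exact (Units.ext this).symm

theorem tInv_chi {r : ℕ} (hr : r < chevG2.nroots) :
    chiT chevG2 (fun i => (-1 : Fˣ) ^ cor chevG2 6 i) r = (-1) ^ prE chevG2 6 r := by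
  have h : hT chevG2 (fun i => (-1 : Fˣ) ^ cor chevG2 6 i) = dU chevG2 (prChar chevG2 6 (-1 : Fˣ)) := by
    rw [← tInv_hT, tInv_eq]
  rw [hT_eq_dU] at h
  have := congrArg (fun g : GL chevG2.Idx F => (g : Matrix chevG2.Idx chevG2.Idx F) (Sum.inr ⟨r, hr⟩) (Sum.inr ⟨r, hr⟩)) h
  simp only [dU_val, diagC, Matrix.diagonal_apply_eq] at this
  exact Units.ext this

section Finite

variable [Finite F]

theorem torus_case {c : ℕ → Fˣ} (hne : hT chevG2 c ≠ 1) (h2 : hT chevG2 c * hT chevG2 c = 1) :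
    ∃ k ∈ chevG2.group F, k * hT chevG2 c * k⁻¹ = tInv F := by
  have hsq : ∀ r < chevG2.nroots, chiT chevG2 c r = 1 ∨ chiT chevG2 c r = -1 := by
    intro r hr
    rw [← facts.hT_mul, ← facts.hT_one] at h2
    have := chiT_of_hT_eq h2 hr
    rw [chiT_eq, chiT_eq, mul_zpow, mul_zpow, mul_mul_mul_comm, ← chiT_eq, one_zpow, one_zpow, one_mul] at this
    have h3 : ((chiT chevG2 c r : Fˣ) : F) * (chiT chevG2 c r : F) = 1 := by
      rw [← Units.val_mul, this, Units.val_one]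
    rcases mul_self_eq_one_iff.1 h3 with e | e
    · exact Or.inl (Units.ext e)
    · exact Or.inr (Units.ext (by rw [e, Units.val_neg, Units.val_one]))
  obtain ⟨e06, e16, e07, e17, -, -, -, s00, s10, s01, s11⟩ := cartan_val
  have h67 : 6 < chevG2.nroots ∧ 7 < chevG2.nroots := by decide
  have fin : ∀ {d : ℕ → Fˣ}, chiT chevG2 d 6 = 1 → chiT chevG2 d 7 = -1 → hT chevG2 d = tInv F := by
    intro d a b
    rw [tInv_hT]
    refine hT_ext ?_ ?_
    · rw [b, tInv_chi h67.2, cartan_val.2.2.2.2.2.1]; norm_num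
    · rw [a, tInv_chi h67.1, facts.prE_self h67.1]; norm_num
  have move : ∀ (i : Fin chevG2.rank) (d : ℕ → Fˣ), ∃ d', nS chevG2 F i * hT chevG2 d * (nS chevG2 F i)⁻¹ = hT chevG2 d' :=
    fun i d => facts.mem_diagonal_iff.1 (facts.nS_conj_hT i (facts.mem_diagonal_iff.2 ⟨d, rfl⟩))
  have hmem : ∀ i : Fin chevG2.rank, nS chevG2 F i ∈ chevG2.group F := fun i =>
    facts.monomial_le_group (facts.nS_mem i)
  have refl0 : ∀ d : ℕ → Fˣ, chiT chevG2 d (chevG2.reflectRoot 0 6) = chiT chevG2 d 6 * chiT chevG2 d 7 ^ (3 : ℤ) ∧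
      chiT chevG2 d (chevG2.reflectRoot 0 7) = (chiT chevG2 d 7)⁻¹ := by
    intro d
    refine ⟨?_, ?_⟩
    · rw [chiT_eq, chiT_eq, chiT_eq, s00, s10, e06, e16, e07, e17, mul_zpow, ← zpow_mul, ← zpow_mul,
        mul_mul_mul_comm, ← zpow_add, ← zpow_add]
      norm_num
    · have := facts.refl_simple (i := 0) (by decide)
      rw [simple_val.1] at this
      rw [this, chiT_neg facts d h67.2]
  have refl1 : ∀ d : ℕ → Fˣ, chiT chevG2 d (chevG2.reflectRoot 1 7) = chiT chevG2 d 7 * chiT chevG2 d 6 ∧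
      chiT chevG2 d (chevG2.reflectRoot 1 6) = (chiT chevG2 d 6)⁻¹ := by
    intro d
    refine ⟨?_, ?_⟩
    · rw [chiT_eq, chiT_eq, chiT_eq, s01, s11, e06, e16, e07, e17, mul_mul_mul_comm, ← zpow_add, ← zpow_add]
      norm_num
    · have := facts.refl_simple (i := 1) (by decide)
      rw [simple_val.2] at this
      rw [this, chiT_neg facts d h67.1]
  have mm : ∀ d : ℕ → Fˣ, chiT chevG2 d 6 = -1 → chiT chevG2 d 7 = -1 →
      ∃ k ∈ chevG2.group F, k * hT chevG2 d * k⁻¹ = tInv F := by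
    intro d a b
    obtain ⟨d', hd'⟩ := move I0 d
    refine ⟨_, hmem I0, hd'.trans (fin ?_ ?_)⟩
    · rw [nS_hT_chi I0 hd' h67.1, (refl0 d).1, a, b]; norm_num
    · rw [nS_hT_chi I0 hd' h67.2, (refl0 d).2, b, inv_neg, inv_one]
  rcases hsq 6 h67.1 with a | a <;> rcases hsq 7 h67.2 with b | b
  · refine absurd ?_ hne
    rw [← facts.hT_one]
    refine hT_ext ?_ ?_ <;> rw [chiT_eq (fun _ => (1 : Fˣ)), one_zpow, one_zpow, one_mul] <;> assumption
  · exact ⟨1, one_mem _, by rw [one_mul, inv_one, mul_one, fin a b]⟩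
  · obtain ⟨d', hd'⟩ := move I1 c
    obtain ⟨k, hk, hkd⟩ := mm d' (by rw [nS_hT_chi I1 hd' h67.1, (refl1 c).2, a, inv_neg, inv_one])
      (by rw [nS_hT_chi I1 hd' h67.2, (refl1 c).1, a, b, one_mul])
    refine ⟨k * nS chevG2 F I1, Subgroup.mul_mem _ hk (hmem I1), ?_⟩
    rw [← hkd, ← hd']; group
  · exact mm c a b

/-- The square of `n_i h` on the other fundamental root. -/
theorem simple_sq (i : Fin chevG2.rank) {c : ℕ → Fˣ} (h2 : nS chevG2 F i * hT chevG2 c * (nS chevG2 F i * hT chevG2 c) = 1)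
    {b : ℕ} (hb : b < chevG2.nroots) :
    chiT chevG2 c (chevG2.reflectRoot i.val b) * (-1) ^ prE chevG2 (chevG2.simple i.val) b * chiT chevG2 c b = 1 := by
  have hr := facts.simple_lt' i.isLt
  have e : nS chevG2 F i * hT chevG2 c * (nS chevG2 F i * hT chevG2 c) =
      (nS chevG2 F i * hT chevG2 c * (nS chevG2 F i)⁻¹) * (nS chevG2 F i * nS chevG2 F i) * hT chevG2 c := by group
  rw [e, nS, facts.nU_sq hr, facts.hU_eq hr, hT_eq_dU, facts.nU_simple_conj_dU i.isLt, dU_mul, dU_mul] at h2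
  have := congrArg (fun g : GL chevG2.Idx F => (g : Matrix chevG2.Idx chevG2.Idx F) (Sum.inr ⟨b, hb⟩) (Sum.inr ⟨b, hb⟩)) h2
  simp only [dU_val, diagC, Matrix.diagonal_apply_eq, Units.val_one, Matrix.one_apply_eq] at this
  exact Units.ext this

/-- Every involution is conjugate to the standard one. -/
theorem exists_conj_tInv (hodd : Odd (Nat.card F)) {g : GL chevG2.Idx F} (hg : g ∈ chevG2.group F)
    (hne : g ≠ 1) (hg2 : g * g = 1) : ∃ k ∈ chevG2.group F, k * g * k⁻¹ = tInv F := by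
  have h20 := two_ne_zero_of_odd hodd
  suffices H : ∃ k ∈ chevG2.group F, k * g * k⁻¹ ∈ chevG2.diagonalSubgroup F by
    obtain ⟨k, hk, hkd⟩ := H
    obtain ⟨c, hc⟩ := facts.mem_diagonal_iff.1 hkd
    obtain ⟨y, hy, hyt⟩ := torus_case (c := c) (by rw [← hc]; simpa using hne) (by
      rw [← hc, show k * g * k⁻¹ * (k * g * k⁻¹) = k * (g * g) * k⁻¹ by group, hg2]; group)
    exact ⟨y * k, Subgroup.mul_mem _ hy hk, by rw [← hyt, ← hc]; group⟩
  obtain ⟨k, hk, hkm⟩ := exists_conj_monomial facts good_G2.comm hodd hg hg2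
  set s := k * g * k⁻¹ with hs
  have hs2 : s * s = 1 := by
    rw [show s * s = k * (g * g) * k⁻¹ by rw [hs]; group, hg2]; group
  obtain ⟨l, h, hh, hsl⟩ := facts.exists_nW hkm
  obtain ⟨m, hm, hlm⟩ := reduce l
  have hperm : PermAct s (sW chevG2 m) := by
    rw [hsl, ← hlm]
    have := facts.permAct_mul (facts.permAct_nW l) (facts.permAct_diagonal hh)
    rwa [mul_one] at this
  have hinv : ∀ r : Fin chevG2.nroots, pv m (pv m r.val) = r.val := by
    intro r
    have h1 := facts.permAct_mul hperm hperm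
    rw [hs2] at h1
    have h2 := facts.permAct_unique h1 (facts.permAct_diagonal (one_mem _))
    have h3 := congrArg Fin.val (Equiv.Perm.congr_fun h2 r)
    rwa [Equiv.Perm.mul_apply, sW_val, sW_val, Equiv.Perm.one_apply] at h3
  obtain ⟨w, -, t, ht, hwt⟩ := can_invol m hm hinv
  set n := nW chevG2 F w with hn
  set s' := n * s * n⁻¹ with hs'
  have hnm : n ∈ chevG2.monomialSubgroup F := facts.nW_mem w
  have hperm' : PermAct s' (sW chevG2 t) := by
    rw [← sW_ext hwt, sW_append, sW_append, facts.sW_reverse, hs', hn]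
    exact facts.permAct_mul (facts.permAct_mul (facts.permAct_nW w) hperm)
      (facts.permAct_inv hnm (facts.permAct_nW w))
  have hs'm : s' ∈ chevG2.monomialSubgroup F :=
    Subgroup.mul_mem _ (Subgroup.mul_mem _ hnm hkm) (Subgroup.inv_mem _ hnm)
  have hs'2 : s' * s' = 1 := by
    rw [show s' * s' = n * (s * s) * n⁻¹ by rw [hs']; group, hs2]; group
  suffices H : ∃ y ∈ chevG2.group F, y * s' * y⁻¹ ∈ chevG2.diagonalSubgroup F by
    obtain ⟨y, hy, hyd⟩ := H
    refine ⟨y * n * k, Subgroup.mul_mem _ (Subgroup.mul_mem _ hy (facts.monomial_le_group hnm)) hk, ?_⟩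
    rw [show y * n * k * g * (y * n * k)⁻¹ = y * s' * y⁻¹ by rw [hs', hs]; group]
    exact hyd
  -- the part of `s'` outside a standard element is diagonal
  have split : ∀ {z : GL chevG2.Idx F}, z ∈ chevG2.monomialSubgroup F → PermAct z (sW chevG2 t) →
      ∃ c, s' = z * hT chevG2 c := by
    intro z hz hzp
    have hd : z⁻¹ * s' ∈ chevG2.diagonalSubgroup F := by
      refine facts.mem_diagonal_of_permAct (Subgroup.mul_mem _ (Subgroup.inv_mem _ hz) hs'm) ?_
      have := facts.permAct_mul (facts.permAct_inv hz hzp) hperm'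
      rwa [inv_mul_cancel] at this
    obtain ⟨c, hc⟩ := facts.mem_diagonal_iff.1 hd
    exact ⟨c, by rw [← hc, mul_inv_cancel_left]⟩
  obtain ⟨e06, e16, e07, e17, p76, p67, -, s00, s10, s01, s11⟩ := cartan_val
  simp only [List.mem_cons, List.not_mem_nil, or_false] at ht
  rcases ht with rfl | rfl | rfl | rfl
  · exact ⟨1, one_mem _, by
      rw [one_mul, inv_one, mul_one]
      exact facts.mem_diagonal_of_permAct hs'm (by rwa [sW_nil] at hperm')⟩
  · obtain ⟨c, hc⟩ := split (facts.nS_mem I0) (by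
      rw [sW_cons, sW_nil, mul_one]; exact facts.permAct_nS I0)
    rw [hc] at hs'2 ⊢
    have e := simple_sq I0 hs'2 (show 6 < chevG2.nroots by decide)
    change chiT chevG2 c (chevG2.reflectRoot 0 6) * (-1) ^ prE chevG2 (chevG2.simple 0) 6 * _ = _ at e
    rw [simple_val.1, p76, chiT_eq, chiT_eq, s00, s10, e06, e16] at e
    refine good_simple h20 ⟨c 0, ?_⟩
    change -chiT chevG2 c (chevG2.simple 0) = _
    rw [simple_val.1, chiT_eq, e07, e17]
    have hc1 : c 1 = -1 := by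
      have e2 : c 0 ^ (3 : ℤ) * c 1 ^ (-1 : ℤ) * (-1) ^ (-3 : ℤ) * (c 0 ^ (-3 : ℤ) * c 1 ^ (2 : ℤ)) =
          c 1 ^ ((-1 : ℤ) + 2) * (c 0 ^ ((3 : ℤ) + -3) * (-1) ^ (-3 : ℤ)) := by
        simp only [zpow_add, mul_assoc, mul_comm, mul_left_comm]
      rw [e2] at e
      norm_num at e
      exact neg_eq_iff_eq_neg.1 e
    rw [hc1]
    norm_num
    rw [sq]
  · obtain ⟨c, hc⟩ := split (facts.nS_mem I1) (by
      rw [sW_cons, sW_nil, mul_one]; exact facts.permAct_nS I1)
    rw [hc] at hs'2 ⊢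
    have e := simple_sq I1 hs'2 (show 7 < chevG2.nroots by decide)
    change chiT chevG2 c (chevG2.reflectRoot 1 7) * (-1) ^ prE chevG2 (chevG2.simple 1) 7 * _ = _ at e
    rw [simple_val.2, p67, chiT_eq, chiT_eq, s01, s11, e07, e17] at e
    refine good_simple h20 ⟨c 1, ?_⟩
    change -chiT chevG2 c (chevG2.simple 1) = _
    rw [simple_val.2, chiT_eq, e06, e16]
    have hc0 : c 0 = -1 := by
      have e2 : c 0 ^ (-1 : ℤ) * c 1 ^ (1 : ℤ) * (-1) ^ (-1 : ℤ) * (c 0 ^ (2 : ℤ) * c 1 ^ (-1 : ℤ)) =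
          c 0 ^ ((-1 : ℤ) + 2) * (c 1 ^ ((1 : ℤ) + -1) * (-1) ^ (-1 : ℤ)) := by
        simp only [zpow_add, mul_assoc, mul_comm, mul_left_comm]
      rw [e2] at e
      norm_num at e
      exact neg_eq_iff_eq_neg.1 e
    rw [hc0]
    norm_num
    rw [sq]
  · have h69 : ((6, 9) : ℕ × ℕ) ∈ pairs := List.mem_cons_self
    obtain ⟨c, hc⟩ := split (NN_mem h69) (permAct_NN h69)
    rw [hc] at hs'2 ⊢
    exact w0_case h20 hs'2

end Finite

end CfsgLib.Chev.Invol.G2
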