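/-
The centraliser of the standard involution of G2(q), q odd: (SL2 ∘ SL2).2.
-/
import Mathlib
import Cfsg.Agent.Lib.Chev.Invol.G2Class
import Cfsg.Agent.Lib.Chev.LargePrime.Chev
import Cfsg.Agent.Lib.Classical.SL2Sylow

set_option autoImplicit false
set_option maxRecDepth 10000

namespace CfsgLib.Chev.Invol.G2

open Cfsg.Lie CfsgLib.Chev CfsgLib.Chev.Invol CfsgLib.Known.ChevSinger
open scoped MatrixGroups

universe u

theorem even_iff : ∀ r : Fin chevG2.nroots, prE chevG2 6 r.val % 2 = 0 ↔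
    r.val ∈ [6, 9, chevG2.neg 6, chevG2.neg 9] := by decide +kernel

theorem nine_parity : ∀ r : Fin chevG2.nroots, prE chevG2 9 r.val % 2 = prE chevG2 6 r.val % 2 := by
  decide +kernel

theorem vals_nine : chevG2.cartan 0 9 = 1 ∧ chevG2.cartan 1 9 = 0 ∧ prE chevG2 6 9 = 0 ∧ prE chevG2 9 6 = 0 := by
  decide +kernel

/-- The word of the reflection in the ninth root. -/
abbrev w9 : List (Fin chevG2.rank) := [I0, I1, I0, I1, I0]

theorem w9_spec : pv [I0, I1] (chevG2.simple I0.val) = 9 ∧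
    [I0, I1] ++ I0 :: ([I0, I1] : List (Fin chevG2.rank)).reverse = w9 ∧
    pv ([] : List (Fin chevG2.rank)) (chevG2.simple I1.val) = 6 := by decide +kernel

theorem parity_words : ∀ m ∈ can,
    (∀ s : Fin chevG2.nroots, prE chevG2 6 (pv m s.val) % 2 = prE chevG2 6 s.val % 2) →
    ∃ t ∈ [[], [I1], w9, w0], ∀ s : Fin chevG2.nroots, pv m s.val = pv t s.val := by decide +kernel

theorem orth69 : Orth chevG2 6 9 := (pairs_spec _ List.mem_cons_self).2.2.1

variable {F : Type u} [Field F]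

theorem neg_one_zpow_eq {a b : ℤ} (h : a % 2 = b % 2) : ((-1 : Fˣ)) ^ a = (-1 : Fˣ) ^ b := by
  obtain ⟨k, hk⟩ : ∃ k, a = b + 2 * k := ⟨(a - b) / 2, by omega⟩
  rw [hk, zpow_add, zpow_mul, show ((-1 : Fˣ)) ^ (2 : ℤ) = 1 by norm_num, one_zpow, mul_one]

theorem hU_nine : hU chevG2 9 ((-1 : Fˣ) : F) = tInv F := by
  rw [tInv_eq, facts.hU_eq (show 9 < chevG2.nroots by decide)]
  exact dU_congr fun s hs => neg_one_zpow_eq (nine_parity ⟨s, hs⟩)

theorem tInv_conj {r : ℕ} (hr : r < chevG2.nroots) (t : F) :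
    tInv F * xU chevG2 r t * (tInv F)⁻¹ = xU chevG2 r (((((-1 : Fˣ)) ^ prE chevG2 6 r : Fˣ) : F) * t) :=
  facts.hU_conj_xU (show 6 < chevG2.nroots by decide) hr _ t

theorem tInv_comm_root {r : ℕ} (hr : r < chevG2.nroots) (h : r ∈ [6, 9, chevG2.neg 6, chevG2.neg 9]) (t : F) :
    Commute (tInv F) (xU chevG2 r t) := by
  have e := tInv_conj hr t
  rw [neg_one_zpow_eq (b := 0) (by have := (even_iff ⟨r, hr⟩).2 h; simpa using this), zpow_zero, Units.val_one,
    one_mul, mul_inv_eq_iff_eq_mul] at e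
  exact e

theorem tInv_ne_one (h2 : (2 : F) ≠ 0) : tInv F ≠ 1 := by
  intro h
  have e := tInv_conj (F := F) (show 7 < chevG2.nroots by decide) 1
  rw [h, one_mul, inv_one, mul_one, mul_one, cartan_val.2.2.2.2.2.1] at e
  have := facts.xU_left_inj (show 7 < chevG2.nroots by decide) e
  rw [zpow_neg, zpow_one, inv_neg, inv_one, Units.val_neg, Units.val_one] at this
  exact h2 (by linear_combination this)

theorem sl2_cases (g : SL(2, F)) :
    (g.1 1 0 = 0 ∧ ∃ (u : Fˣ) (b : F), g.1 0 0 = (u : F) ∧ g.1 0 1 = b) ∨ g.1 1 0 ≠ 0 := by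
  by_cases h : g.1 1 0 = 0
  · refine Or.inl ⟨h, ?_⟩
    have hd := sl2_det g
    rw [h, mul_zero, sub_zero] at hd
    exact ⟨Units.mk0 _ (left_ne_zero_of_mul_eq_one hd), _, rfl, rfl⟩
  · exact Or.inr h

section Hom

variable {r : ℕ}

/-- A rank one homomorphism is injective when some character `⟨·, r^∨⟩` takes the value `±1`. -/
theorem sl2Hom_injective (hr : r < chevG2.nroots) {φ : SL(2, F) →* GL chevG2.Idx F}
    (hφ : ∀ (g : SL(2, F)) (t : F),
        ((g : Matrix (Fin 2) (Fin 2) F) = !![1, t; 0, 1] →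
          ((φ g : GL chevG2.Idx F) : Matrix chevG2.Idx chevG2.Idx F) = chevG2.x F r t) ∧
        ((g : Matrix (Fin 2) (Fin 2) F) = !![1, 0; t, 1] →
          ((φ g : GL chevG2.Idx F) : Matrix chevG2.Idx chevG2.Idx F) = chevG2.x F (chevG2.neg r) t))
    {q : ℕ} (hq : q < chevG2.nroots) (hrq : prE chevG2 r q = 1 ∨ prE chevG2 r q = -1) :
    Function.Injective φ := by
  let lo : F → SL(2, F) := fun t => ⟨!![1, 0; t, 1], by simp [Matrix.det_fin_two]⟩
  have hup : ∀ t : F, φ (upM t) = xU chevG2 r t := fun t => (facts.eq_xU_iff hr).1 ((hφ _ t).1 rfl)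
  have hlo : ∀ t : F, φ (lo t) = xU chevG2 (chevG2.neg r) t := fun t =>
    (facts.eq_xU_iff (facts.neg_lt hr)).1 ((hφ _ t).2 rfl)
  let W : Fˣ → SL(2, F) := fun v => ⟨!![0, (v : F); -(v : F)⁻¹, 0], by simp [Matrix.det_fin_two]⟩
  have hW : ∀ v : Fˣ, φ (W v) = nU chevG2 r (v : F) := by
    intro v
    have e : W v = upM (v : F) * lo (-(v : F)⁻¹) * upM (v : F) := by
      refine Subtype.ext ?_
      show (W v).1 = (!![1, (v : F); 0, 1] * !![1, 0; -(v : F)⁻¹, 1]) * !![1, (v : F); 0, 1]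
      ext i j
      fin_cases i <;> fin_cases j <;> simp [W, Matrix.mul_apply, Fin.sum_univ_two]
    rw [e, map_mul, map_mul, hup, hlo]; rfl
  refine (injective_iff_map_eq_one φ).2 fun g hg => ?_
  rcases sl2_cases g with ⟨hc, u, b, ha, hb⟩ | hc
  · have hd := sl2_det g
    rw [hc, mul_zero, sub_zero, ha] at hd
    have hdd : g.1 1 1 = (u : F)⁻¹ := (inv_eq_of_mul_eq_one_right hd).symm
    have e : g = (W u * W (-1)) * upM ((u : F)⁻¹ * b) := by
      refine Subtype.ext ?_
      show g.1 = ((W u).1 * (W (-1)).1) * !![1, (u : F)⁻¹ * b; 0, 1]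
      ext i j
      fin_cases i <;> fin_cases j <;>
        simp [W, Matrix.mul_apply, Fin.sum_univ_two, hc, ha, hb, hdd]
    rw [e, map_mul, map_mul, hW, hW, hup, Units.val_neg, Units.val_one,
      show nU chevG2 r (u : F) * nU chevG2 r (-1) = hU chevG2 r (u : F) from rfl] at hg
    have h1 := facts.hU_conj_xU hr hq u (1 : F)
    rw [eq_inv_of_mul_eq_one_left hg, facts.xU_inv hr] at h1
    have h2 : xU chevG2 r (-((u : F)⁻¹ * b)) = 1 := by
      rw [← facts.xU_inv hr, ← eq_inv_of_mul_eq_one_left hg]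
      have hmem : hU chevG2 r (u : F) ∈ chevG2.diagonalSubgroup F := facts.hU_mem_diagonal hr u.ne_zero
      have hp := facts.permAct_diagonal hmem
      by_contra hne
      have hx : (u : F)⁻¹ * b ≠ 0 := fun h0 => hne (by
        rw [eq_inv_of_mul_eq_one_left hg, h0, facts.xU_zero hr, inv_one])
      obtain ⟨c, -, hc1, -⟩ := hp ⟨q, hq⟩
      by_cases hpos : chevG2.nroots / 2 ≤ r
      · have h3 : hU chevG2 r (u : F) ∈ rootClosure chevG2 F (chevG2.nroots / 2 ≤ ·) ⊓ chevG2.diagonalSubgroup F := by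
          refine ⟨?_, hmem⟩
          rw [eq_inv_of_mul_eq_one_left hg, facts.xU_inv hr]
          exact xU_mem_rootClosure hr hpos _
        rw [facts.pos_inf_diagonal, Subgroup.mem_bot] at h3
        exact hne h3
      · have h3 : hU chevG2 r (u : F) ∈ chevG2.borelSubgroup F ⊓ chevG2.negUnipotent F := by
          refine ⟨facts.diagonal_le_borel hmem, ?_⟩
          rw [facts.negUnipotent_eq, eq_inv_of_mul_eq_one_left hg, facts.xU_inv hr]
          exact xU_mem_rootClosure hr (by omega) _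
        rw [facts.borel_inf_neg, Subgroup.mem_bot] at h3
        exact hne h3
    have hb0 : (u : F)⁻¹ * b = 0 := neg_eq_zero.1 (facts.xU_eq_one hr h2)
    rw [h2, inv_one, one_mul, mul_one] at h1
    have h4 := facts.xU_left_inj hq h1
    have hu : u = 1 := by
      rw [mul_one] at h4
      have h5 : u ^ prE chevG2 r q = 1 := (Units.ext h4).symm
      rcases hrq with h | h <;> rw [h] at h5 <;> simpa using h5
    have hb' : b = 0 := by
      rcases mul_eq_zero.1 hb0 with h | h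
      · exact absurd h (inv_ne_zero u.ne_zero)
      · exact h
    refine Subtype.ext ?_
    show g.1 = 1
    ext i j
    fin_cases i <;> fin_cases j <;> simp [hc, ha, hb, hdd, hu, hb']
  · exfalso
    set v : Fˣ := Units.mk0 (-(g.1 1 0))⁻¹ (inv_ne_zero (neg_ne_zero.2 hc)) with hv
    have hd := sl2_det g
    have e : g = upM (g.1 0 0 / g.1 1 0) * W v * upM (g.1 1 1 / g.1 1 0) := by
      refine Subtype.ext ?_
      show g.1 = (!![1, g.1 0 0 / g.1 1 0; 0, 1] * (W v).1) * !![1, g.1 1 1 / g.1 1 0; 0, 1]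
      ext i j
      fin_cases i <;> fin_cases j <;> simp [W, v, Matrix.mul_apply, Fin.sum_univ_two] <;> field_simp
      linear_combination -hd
    rw [e, map_mul, map_mul, hW, hup, hup] at hg
    set n := nU chevG2 r (v : F)
    have hn : n = xU chevG2 r (-(g.1 0 0 / g.1 1 0) + -(g.1 1 1 / g.1 1 0)) := by
      rw [← facts.xU_add hr, ← facts.xU_inv hr, ← facts.xU_inv hr]
      calc n = (xU chevG2 r (g.1 0 0 / g.1 1 0))⁻¹ * (xU chevG2 r (g.1 0 0 / g.1 1 0) * n *
          xU chevG2 r (g.1 1 1 / g.1 1 0)) * (xU chevG2 r (g.1 1 1 / g.1 1 0))⁻¹ := by group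
        _ = _ := by rw [hg, mul_one]
    have hcj : n * xU chevG2 r 1 * n⁻¹ = xU chevG2 r 1 := by
      rw [hn, facts.xU_inv hr, facts.xU_add hr, facts.xU_add hr]
      congr 1
      ring
    have hcj2 : n * xU chevG2 r 1 * n⁻¹ = xU chevG2 (chevG2.neg r) ((((v : F)) ^ 2)⁻¹ * -1) := by
      show nU chevG2 r (v : F) * xU chevG2 r 1 * (nU chevG2 r (v : F))⁻¹ = _
      rw [nU_eq_hU_mul facts hr, ← hU_conj_neg facts hr, mul_inv_rev, ← facts.nU_conj_self hr 1]
      group
    rw [hcj] at hcj2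
    exact facts.neg_ne hr (facts.xU_root_unique hr (facts.neg_lt hr) one_ne_zero hcj2).symm

end Hom

/-- The standard involution in the group. -/
noncomputable def tG (F : Type u) [Field F] : ↥(chevG2.group F) :=
  ⟨tInv F, facts.diagonal_le_group (facts.hU_mem_diagonal (by decide) (Units.ne_zero _))⟩

/-- The centraliser of the standard involution. -/
theorem centralizer_tG [Finite F] (hodd : Odd (Nat.card F)) :
    ∃ L₁ L₂ : Subgroup ↥(chevG2.group F),
      Nat.card (Subgroup.centralizer ({tG F} : Set ↥(chevG2.group F))) =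
        Nat.card F ^ 2 * (Nat.card F ^ 2 - 1) ^ 2 ∧
      Nonempty (L₁ ≃* SL(2, F)) ∧ Nonempty (L₂ ≃* SL(2, F)) ∧
      (∀ x ∈ L₁, ∀ y ∈ L₂, x * y = y * x) ∧ L₁ ⊓ L₂ = Subgroup.zpowers (tG F) ∧
      L₁ ⊔ L₂ ≤ Subgroup.centralizer ({tG F} : Set ↥(chevG2.group F)) ∧
      (L₁ ⊔ L₂).relIndex (Subgroup.centralizer ({tG F} : Set ↥(chevG2.group F))) = 2 := by
  classical
  haveI := Fintype.ofFinite F
  have h20 := two_ne_zero_of_odd hodd
  have h6 : 6 < chevG2.nroots := by decide
  have h9 : 9 < chevG2.nroots := by decide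
  obtain ⟨φ, hφr, hφ⟩ := facts.exists_sl2Hom (F := F) h6
  obtain ⟨ψ, hψr, hψ⟩ := facts.exists_sl2Hom (F := F) h9
  have hφi := sl2Hom_injective h6 hφ (q := 7) (by decide) (Or.inr cartan_val.2.2.2.2.2.1)
  have hψi := sl2Hom_injective h9 hψ (q := 7) (by decide) (Or.inl cartan_val.2.2.2.2.2.2.1)
  have hsub : ∀ {r : ℕ}, r < chevG2.nroots → chevG2.rootSubgroup F r ≤ chevG2.group F := fun hr g hg => by
    obtain ⟨t, rfl⟩ := (facts.mem_rootSubgroup_iff hr).1 hg
    exact facts.xU_mem_group hr t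
  have hφG : ∀ g, φ g ∈ chevG2.group F := fun g =>
    (sup_le (hsub h6) (hsub (facts.neg_lt h6))) (hφr ▸ ⟨g, rfl⟩)
  have hψG : ∀ g, ψ g ∈ chevG2.group F := fun g =>
    (sup_le (hsub h9) (hsub (facts.neg_lt h9))) (hψr ▸ ⟨g, rfl⟩)
  let A : SL(2, F) →* ↥(chevG2.group F) := φ.codRestrict _ hφG
  let B : SL(2, F) →* ↥(chevG2.group F) := ψ.codRestrict _ hψG
  have hAi : Function.Injective A := fun x y h => hφi (congrArg Subtype.val h)
  have hBi : Function.Injective B := fun x y h => hψi (congrArg Subtype.val h)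
  -- the two factors commute
  have hcomm : ∀ x y, Commute (φ x) (ψ y) := by
    intro x y
    have h1 : ∀ {w : ℕ}, w ∈ [9, chevG2.neg 9] → ∀ t : F, Commute (φ x) (xU chevG2 w t) := by
      intro w hw t
      refine Subgroup.mem_centralizer_singleton_iff.1 ?_
      refine (sup_le ?_ ?_ : _ ≤ Subgroup.centralizer ({xU chevG2 w t} : Set (GL chevG2.Idx F)))
        (show φ x ∈ _ by rw [← hφr]; exact ⟨x, rfl⟩) <;> intro g hg
      · obtain ⟨v, rfl⟩ := (facts.mem_rootSubgroup_iff h6).1 hg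
        exact Subgroup.mem_centralizer_singleton_iff.2 (Orth.commute facts orth69 (by simp) hw v t).eq
      · obtain ⟨v, rfl⟩ := (facts.mem_rootSubgroup_iff (facts.neg_lt h6)).1 hg
        exact Subgroup.mem_centralizer_singleton_iff.2 (Orth.commute facts orth69 (by simp) hw v t).eq
    refine Commute.symm (Subgroup.mem_centralizer_singleton_iff.1 ?_)
    refine (sup_le ?_ ?_ : _ ≤ Subgroup.centralizer ({φ x} : Set (GL chevG2.Idx F)))
      (show ψ y ∈ _ by rw [← hψr]; exact ⟨y, rfl⟩) <;> intro g hg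
    · obtain ⟨v, rfl⟩ := (facts.mem_rootSubgroup_iff h9).1 hg
      exact Subgroup.mem_centralizer_singleton_iff.2 (h1 (by simp) v).symm.eq
    · obtain ⟨v, rfl⟩ := (facts.mem_rootSubgroup_iff (facts.neg_lt h9)).1 hg
      exact Subgroup.mem_centralizer_singleton_iff.2 (h1 (by simp) v).symm.eq
  have hup : ∀ t : F, φ (upM t) = xU chevG2 6 t := fun t => (facts.eq_xU_iff h6).1 ((hφ _ t).1 rfl)
  have hupB : ∀ t : F, ψ (upM t) = xU chevG2 9 t := fun t => (facts.eq_xU_iff h9).1 ((hψ _ t).1 rfl)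
  let lo : F → SL(2, F) := fun t => ⟨!![1, 0; t, 1], by simp [Matrix.det_fin_two]⟩
  have hlo : ∀ t : F, φ (lo t) = xU chevG2 (chevG2.neg 6) t := fun t =>
    (facts.eq_xU_iff (facts.neg_lt h6)).1 ((hφ _ t).2 rfl)
  have hloB : ∀ t : F, ψ (lo t) = xU chevG2 (chevG2.neg 9) t := fun t =>
    (facts.eq_xU_iff (facts.neg_lt h9)).1 ((hψ _ t).2 rfl)
  set L := A.range ⊔ B.range with hL
  have hcommG : ∀ x y, Commute (A x) (B y) := fun x y => Subtype.ext (hcomm x y)
  have hnuA : ∀ v : Fˣ, ∃ g, φ g = nU chevG2 6 (v : F) := fun v =>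
    ⟨upM (v : F) * lo (-(v : F)⁻¹) * upM (v : F), by rw [map_mul, map_mul, hup, hlo]; rfl⟩
  have hnuB : ∀ v : Fˣ, ∃ g, ψ g = nU chevG2 9 (v : F) := fun v =>
    ⟨upM (v : F) * lo (-(v : F)⁻¹) * upM (v : F), by rw [map_mul, map_mul, hupB, hloB]; rfl⟩
  have hhA : ∀ v : Fˣ, ∃ g, φ g = hU chevG2 6 (v : F) := fun v => by
    obtain ⟨g, hg⟩ := hnuA v
    obtain ⟨g', hg'⟩ := hnuA (-1)
    exact ⟨g * g', by rw [map_mul, hg, hg', Units.val_neg, Units.val_one]; rfl⟩
  have hhB : ∀ v : Fˣ, ∃ g, ψ g = hU chevG2 9 (v : F) := fun v => by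
    obtain ⟨g, hg⟩ := hnuB v
    obtain ⟨g', hg'⟩ := hnuB (-1)
    exact ⟨g * g', by rw [map_mul, hg, hg', Units.val_neg, Units.val_one]; rfl⟩
  obtain ⟨zA, hzA⟩ : ∃ z, φ z = tInv F := hhA (-1)
  obtain ⟨zB, hzB⟩ : ∃ z, ψ z = tInv F := by rw [← hU_nine]; exact hhB (-1)
  -- central elements of SL2
  have hcent : ∀ g : SL(2, F), (∀ h, Commute g h) → g = 1 ∨ g = -1 := by
    intro g hg
    have e1 := congrArg Subtype.val (hg (upM 1)).eq
    have e2 := congrArg Subtype.val (hg (lo 1)).eq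
    change g.1 * !![1, (1 : F); 0, 1] = !![1, (1 : F); 0, 1] * g.1 at e1
    change g.1 * !![1, 0; (1 : F), 1] = !![1, 0; (1 : F), 1] * g.1 at e2
    have a1 := congrFun (congrFun e1 0) 0
    have a2 := congrFun (congrFun e1 0) 1
    have b1 := congrFun (congrFun e2 0) 0
    simp [Matrix.mul_apply, Fin.sum_univ_two] at a1 a2 b1
    have hd := sl2_det g
    have a2' : g.1 0 0 = g.1 1 1 := by linear_combination a2
    rw [a1, mul_zero, sub_zero, ← a2'] at hd
    rcases mul_self_eq_one_iff.1 hd with h | h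
    · left
      refine Subtype.ext ?_
      show g.1 = 1
      ext i j
      fin_cases i <;> fin_cases j <;> simp [a1, b1, ← a2', h]
    · right
      refine Subtype.ext ?_
      show g.1 = -1
      ext i j
      fin_cases i <;> fin_cases j <;> simp [a1, b1, ← a2', h]
  have hneg : ∀ {χ : SL(2, F) →* GL chevG2.Idx F}, Function.Injective χ → ∀ {z}, χ z = tInv F →
      (∀ g, Commute (tInv F) (χ g)) → z = -1 := by
    intro χ hχ z hz hzc
    have hzz : ∀ g, Commute z g := fun g => hχ (by rw [map_mul, map_mul, hz, (hzc g).eq])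
    rcases hcent z hzz with h | h
    · exact absurd (by rw [← hz, h, map_one]) (tInv_ne_one h20)
    · exact h
  -- everything in sight centralises the involution
  have hmemT : ∀ x : GL chevG2.Idx F,
      (x ∈ chevG2.rootSubgroup F 6 ⊔ chevG2.rootSubgroup F (chevG2.neg 6) ∨
       x ∈ chevG2.rootSubgroup F 9 ⊔ chevG2.rootSubgroup F (chevG2.neg 9)) → Commute (tInv F) x := by
    have k : ∀ {r : ℕ}, r < chevG2.nroots → r ∈ [6, 9, chevG2.neg 6, chevG2.neg 9] →
        chevG2.rootSubgroup F r ≤ Subgroup.centralizer ({tInv F} : Set (GL chevG2.Idx F)) := by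
      intro r hr hm g hg
      obtain ⟨t, rfl⟩ := (facts.mem_rootSubgroup_iff hr).1 hg
      exact Subgroup.mem_centralizer_singleton_iff.2 (tInv_comm_root hr hm t).symm.eq
    intro x hx
    refine Commute.symm (Subgroup.mem_centralizer_singleton_iff.1 ?_)
    rcases hx with hx | hx
    · exact (sup_le (k h6 (by simp)) (k (facts.neg_lt h6) (by simp))) hx
    · exact (sup_le (k h9 (by simp)) (k (facts.neg_lt h9) (by simp))) hx
  have hTA : ∀ g, Commute (tInv F) (φ g) := fun g => hmemT _ (Or.inl (hφr ▸ ⟨g, rfl⟩))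
  have hTB : ∀ g, Commute (tInv F) (ψ g) := fun g => hmemT _ (Or.inr (hψr ▸ ⟨g, rfl⟩))
  have ezA : zA = -1 := hneg hφi hzA hTA
  have ezB : zB = -1 := hneg hψi hzB hTB
  have hinf : A.range ⊓ B.range = Subgroup.zpowers (tG F) := by
    refine le_antisymm ?_ (Subgroup.zpowers_le.2 ⟨⟨zA, Subtype.ext hzA⟩, ⟨zB, Subtype.ext hzB⟩⟩)
    rintro _ ⟨⟨g, rfl⟩, ⟨g', hg'⟩⟩
    have hgc : ∀ h, Commute g h := fun h => hAi (by
      rw [map_mul, map_mul, ← hg']
      exact (hcommG h g').symm.eq)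
    rcases hcent g hgc with rfl | rfl
    · simp
    · have : A (-1) = tG F := Subtype.ext (ezA ▸ hzA)
      rw [this]; exact Subgroup.mem_zpowers _
  -- the order of the product
  let μ : SL(2, F) × SL(2, F) →* ↥(chevG2.group F) :=
    MonoidHom.noncommCoprod A B hcommG
  have hμr : μ.range = L := MonoidHom.noncommCoprod_range A B hcommG
  have hker : μ.ker = Subgroup.zpowers ((-1, -1) : SL(2, F) × SL(2, F)) := by
    refine le_antisymm ?_ (Subgroup.zpowers_le.2 ?_)
    · rintro ⟨x, y⟩ hxy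
      rw [MonoidHom.mem_ker] at hxy
      change A x * B y = 1 at hxy
      have hxi : A x ∈ A.range ⊓ B.range :=
        ⟨⟨x, rfl⟩, ⟨y⁻¹, by rw [map_inv, inv_eq_iff_mul_eq_one]; rw [← (hcommG x y).eq]; exact hxy⟩⟩
      rw [hinf, mem_zpowers_iff_mem_range_orderOf] at hxi
      obtain ⟨k, -, hk⟩ := Finset.mem_image.1 hxi
      have hA1 : A (-1) = tG F := Subtype.ext (ezA ▸ hzA)
      have hB1 : B (-1) = tG F := Subtype.ext (ezB ▸ hzB)
      have hx : x = (-1) ^ k := hAi (by rw [← hk, map_pow, hA1])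
      have hy : y = ((-1) ^ k)⁻¹ := hBi (by
        rw [map_inv, map_pow, hB1]
        rw [hx, map_pow, hA1] at hxy
        exact eq_inv_of_mul_eq_one_right hxy)
      rw [hx, hy, ← inv_pow, show ((-1 : SL(2, F)))⁻¹ = -1 from inv_eq_of_mul_eq_one_right (by simp)]
      exact ⟨k, by simp [zpow_natCast]⟩
    · rw [MonoidHom.mem_ker]
      show A (-1) * B (-1) = 1
      refine Subtype.ext ?_
      show φ (-1) * ψ (-1) = 1
      rw [show φ (-1) = tInv F from ezA ▸ hzA, show ψ (-1) = tInv F from ezB ▸ hzB, ← hzA, ← map_mul, ezA]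
      simp
  have hkc : Nat.card μ.ker = 2 := by
    rw [hker, Nat.card_zpowers]
    refine orderOf_eq_prime (by simp [sq]) fun h => ?_
    have h1 := congrArg (fun z : SL(2, F) × SL(2, F) => z.1.1 0 0) h
    simp at h1
    exact h20 (by linear_combination -h1)
  have hLcard : 2 * Nat.card L = (Fintype.card F * (Fintype.card F ^ 2 - 1)) ^ 2 := by
    have h1 := μ.ker.card_mul_index
    rw [hkc, Subgroup.index_ker, hμr] at h1
    rw [h1, Nat.card_prod, CfsgLib.Classical.card_SL_two rfl, show Fintype.card F ^ 2 - 1 = (Fintype.card F - 1) * (Fintype.card F + 1) by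
      rw [mul_comm, ← Nat.sq_sub_sq, one_pow], sq]
  -- the diagonal subgroup
  let H : Subgroup ↥(chevG2.group F) := (chevG2.diagonalSubgroup F).subgroupOf _
  have hHnorm : H ≤ Subgroup.normalizer (L : Set ↥(chevG2.group F)) := by
    have key : ∀ (c : ℕ → Fˣ) (hc : hT chevG2 c ∈ chevG2.group F), ∀ x ∈ L,
        (⟨_, hc⟩ : ↥(chevG2.group F)) * x * (⟨_, hc⟩ : ↥(chevG2.group F))⁻¹ ∈ L := by
      intro c hc x hx
      refine (sup_le ?_ ?_ : L ≤ L.comap (MulAut.conj (⟨_, hc⟩ : ↥(chevG2.group F))).toMonoidHom) hx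
      · rintro _ ⟨g, rfl⟩
        refine Subgroup.mem_sup_left ?_
        have h1 : φ g ∈ φ.range := ⟨g, rfl⟩
        rw [hφr] at h1
        have h2 : hT chevG2 c * φ g * (hT chevG2 c)⁻¹ ∈ φ.range := by
          rw [hφr]
          refine (sup_le ?_ ?_ : _ ≤ (chevG2.rootSubgroup F 6 ⊔ chevG2.rootSubgroup F (chevG2.neg 6)).comap
            (MulAut.conj (hT chevG2 c)).toMonoidHom) h1 <;> intro z hz
          · obtain ⟨t, rfl⟩ := (facts.mem_rootSubgroup_iff h6).1 hz
            exact Subgroup.mem_sup_left ((facts.mem_rootSubgroup_iff h6).2 ⟨_, facts.hT_conj_xU c h6 t⟩)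
          · obtain ⟨t, rfl⟩ := (facts.mem_rootSubgroup_iff (facts.neg_lt h6)).1 hz
            exact Subgroup.mem_sup_right ((facts.mem_rootSubgroup_iff (facts.neg_lt h6)).2 ⟨_, facts.hT_conj_xU c (facts.neg_lt h6) t⟩)
        obtain ⟨g', hg'⟩ := h2
        exact ⟨g', Subtype.ext hg'⟩
      · rintro _ ⟨g, rfl⟩
        refine Subgroup.mem_sup_right ?_
        have h1 : ψ g ∈ ψ.range := ⟨g, rfl⟩
        rw [hψr] at h1
        have h2 : hT chevG2 c * ψ g * (hT chevG2 c)⁻¹ ∈ ψ.range := by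
          rw [hψr]
          refine (sup_le ?_ ?_ : _ ≤ (chevG2.rootSubgroup F 9 ⊔ chevG2.rootSubgroup F (chevG2.neg 9)).comap
            (MulAut.conj (hT chevG2 c)).toMonoidHom) h1 <;> intro z hz
          · obtain ⟨t, rfl⟩ := (facts.mem_rootSubgroup_iff h9).1 hz
            exact Subgroup.mem_sup_left ((facts.mem_rootSubgroup_iff h9).2 ⟨_, facts.hT_conj_xU c h9 t⟩)
          · obtain ⟨t, rfl⟩ := (facts.mem_rootSubgroup_iff (facts.neg_lt h9)).1 hz
            exact Subgroup.mem_sup_right ((facts.mem_rootSubgroup_iff (facts.neg_lt h9)).2 ⟨_, facts.hT_conj_xU c (facts.neg_lt h9) t⟩)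
        obtain ⟨g', hg'⟩ := h2
        exact ⟨g', Subtype.ext hg'⟩
    intro h hh
    have hmem : (h : GL chevG2.Idx F) ∈ chevG2.diagonalSubgroup F := Subgroup.mem_subgroupOf.1 hh
    obtain ⟨c, hc⟩ := facts.mem_diagonal_iff.1 hmem
    obtain ⟨c', hc'⟩ := facts.mem_diagonal_iff.1 (Subgroup.inv_mem _ hmem)
    rw [Subgroup.mem_normalizer_iff]
    intro x
    refine ⟨fun hx => ?_, fun hx => ?_⟩
    · have hm := facts.diagonal_le_group (F := F) (facts.mem_diagonal_iff.2 ⟨c, rfl⟩)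
      have := key c hm x hx
      rwa [show (⟨_, hm⟩ : ↥(chevG2.group F)) = h from Subtype.ext hc.symm] at this
    · have hm := facts.diagonal_le_group (F := F) (facts.mem_diagonal_iff.2 ⟨c', rfl⟩)
      have := key c' hm _ hx
      have e : (⟨_, hm⟩ : ↥(chevG2.group F)) = h⁻¹ := Subtype.ext hc'.symm
      rw [e] at this
      simpa [mul_assoc] using this
  have hLC : L ≤ Subgroup.centralizer ({tG F} : Set ↥(chevG2.group F)) := by
    refine sup_le ?_ ?_ <;> rintro _ ⟨g, rfl⟩ <;> rw [Subgroup.mem_centralizer_singleton_iff] <;>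
      refine Subtype.ext ?_
    · exact (hTA g).symm.eq
    · exact (hTB g).symm.eq
  have hHC : H ≤ Subgroup.centralizer ({tG F} : Set ↥(chevG2.group F)) := by
    intro h hh
    rw [Subgroup.mem_centralizer_singleton_iff]
    refine Subtype.ext ?_
    obtain ⟨c, hc⟩ := facts.mem_diagonal_iff.1 (Subgroup.mem_subgroupOf.1 hh)
    show (h : GL chevG2.Idx F) * tInv F = tInv F * h
    rw [hc, tInv_hT, hT, hT]
    exact (dU_commute _ _).eq
  have hC : Subgroup.centralizer ({tG F} : Set ↥(chevG2.group F)) = L ⊔ H := by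
    refine le_antisymm ?_ (sup_le hLC hHC)
    intro g hg
    rw [Subgroup.mem_centralizer_singleton_iff] at hg
    have hg' : Commute (g : GL chevG2.Idx F) (tInv F) := congrArg Subtype.val hg
    obtain ⟨u1, k, n, u, hu1, hk, ⟨hn, hnG, hnc⟩, hu, e⟩ :=
      CfsgLib.Chev.LargePrime.decompose_all facts good_G2.comm (A := ({tInv F} : Set (GL chevG2.Idx F)))
        (by intro d hd; rw [Set.mem_singleton_iff.1 hd]; exact facts.hU_mem_diagonal h6 (Units.ne_zero _))
        g.2 (fun d hd => (Set.mem_singleton_iff.1 hd).symm ▸ hg')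
    let S : Subgroup (GL chevG2.Idx F) := (L ⊔ H).map (chevG2.group F).subtype
    suffices (g : GL chevG2.Idx F) ∈ S by
      obtain ⟨x, hx, hxg⟩ := this
      rwa [← (Subtype.ext hxg : x = g)]
    have hS : ∀ {x : ↥(chevG2.group F)}, x ∈ L ⊔ H → (x : GL chevG2.Idx F) ∈ S := fun hx => ⟨_, hx, rfl⟩
    have hSd : chevG2.diagonalSubgroup F ≤ S := fun x hx =>
      hS (x := ⟨x, facts.diagonal_le_group hx⟩) (Subgroup.mem_sup_right (Subgroup.mem_subgroupOf.2 hx))
    have hSA : ∀ g, φ g ∈ S := fun g => hS (x := A g) (Subgroup.mem_sup_left (Subgroup.mem_sup_left ⟨g, rfl⟩))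
    have hSB : ∀ g, ψ g ∈ S := fun g => hS (x := B g) (Subgroup.mem_sup_left (Subgroup.mem_sup_right ⟨g, rfl⟩))
    have hSu : ∀ x ∈ rootClosure chevG2 F (fun r => ∀ c : ℕ → Fˣ, hT chevG2 c ∈ ({tInv F} : Set (GL chevG2.Idx F)) →
        chiT chevG2 c r = 1), x ∈ S := by
      intro x hx
      refine (Subgroup.closure_le _).2 ?_ hx
      rintro _ ⟨r, t, hr, hrc, rfl⟩
      have h1 := hrc _ (Set.mem_singleton_iff.2 tInv_hT.symm)
      rw [tInv_chi hr] at h1
      have hev : prE chevG2 6 r % 2 = 0 := by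
        by_contra h0
        rw [neg_one_zpow_eq (b := 1) (by omega), zpow_one] at h1
        exact h20 (by
          have := congrArg Units.val h1
          rw [Units.val_neg, Units.val_one] at this
          linear_combination -this)
      have := (even_iff ⟨r, hr⟩).1 hev
      simp only [List.mem_cons, List.not_mem_nil, or_false] at this
      rcases this with rfl | rfl | rfl | rfl
      · rw [SetLike.mem_coe, ← hup]; exact hSA _
      · rw [SetLike.mem_coe, ← hupB]; exact hSB _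
      · rw [SetLike.mem_coe, ← hlo]; exact hSA _
      · rw [SetLike.mem_coe, ← hloB]; exact hSB _
    have hSn : n ∈ S := by
      obtain ⟨l, h, hh, hnl⟩ := facts.exists_nW hn
      obtain ⟨m, hm, hlm⟩ := reduce l
      have hperm : PermAct n (sW chevG2 m) := by
        rw [hnl, ← hlm]
        have := facts.permAct_mul (facts.permAct_nW l) (facts.permAct_diagonal hh)
        rwa [mul_one] at this
      have hpar : ∀ s : Fin chevG2.nroots, prE chevG2 6 (pv m s.val) % 2 = prE chevG2 6 s.val % 2 := by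
        intro s
        obtain ⟨c, hc0, hc1, -⟩ := hperm s
        have e1 : n * (tInv F * xU chevG2 s.val 1 * (tInv F)⁻¹) * n⁻¹ =
            tInv F * (n * xU chevG2 s.val 1 * n⁻¹) * (tInv F)⁻¹ := by
          have := hnc _ rfl
          calc n * (tInv F * xU chevG2 s.val 1 * (tInv F)⁻¹) * n⁻¹
              = (n * tInv F) * xU chevG2 s.val 1 * (n * tInv F)⁻¹ := by group
            _ = _ := by rw [this.eq]; group
        rw [tInv_conj s.isLt, hc1, hc1, tInv_conj (sW chevG2 m s).isLt, sW_val] at e1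
        have e2 := facts.xU_left_inj (sW_val m s ▸ (sW chevG2 m s).isLt) e1
        rw [mul_one, mul_comm c, mul_one] at e2
        have e3 : ((-1 : Fˣ)) ^ prE chevG2 6 s.val = (-1 : Fˣ) ^ prE chevG2 6 (pv m s.val) :=
          Units.ext (mul_right_cancel₀ hc0 e2)
        by_contra h0
        have hne : ((-1 : Fˣ)) ≠ 1 := fun h => h20 (by
          have := congrArg Units.val h
          rw [Units.val_neg, Units.val_one] at this
          linear_combination -this)
        rcases Int.emod_two_eq (prE chevG2 6 s.val) with h1 | h1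
        · rw [neg_one_zpow_eq (b := 0) (by simpa using h1),
            neg_one_zpow_eq (a := prE chevG2 6 (pv m s.val)) (b := 1) (by omega), zpow_zero, zpow_one] at e3
          exact hne e3.symm
        · rw [neg_one_zpow_eq (b := 1) (by simpa using h1),
            neg_one_zpow_eq (a := prE chevG2 6 (pv m s.val)) (b := 0) (by omega), zpow_zero, zpow_one] at e3
          exact hne e3
      obtain ⟨t, ht, hmt⟩ := parity_words m hm hpar
      rw [sW_ext hmt] at hperm
      have fin : ∀ z, z ∈ chevG2.monomialSubgroup F → z ∈ S → PermAct z (sW chevG2 t) → n ∈ S := by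
        intro z hz hzS hzp
        have hd : z⁻¹ * n ∈ chevG2.diagonalSubgroup F := by
          refine facts.mem_diagonal_of_permAct (Subgroup.mul_mem _ (Subgroup.inv_mem _ hz) hn) ?_
          have := facts.permAct_mul (facts.permAct_inv hz hzp) hperm
          rwa [inv_mul_cancel] at this
        rw [← mul_inv_cancel_left z n]
        exact Subgroup.mul_mem _ hzS (hSd hd)
      obtain ⟨ga, hga⟩ := hnuA 1
      obtain ⟨gb, hgb⟩ := hnuB 1
      rw [Units.val_one] at hga hgb
      have p6 : PermAct (nU chevG2 6 (1 : F)) (sW chevG2 [I1]) := permAct_nU w9_spec.2.2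
      have p9 : PermAct (nU chevG2 9 (1 : F)) (sW chevG2 w9) := w9_spec.2.1 ▸ permAct_nU w9_spec.1
      simp only [List.mem_cons, List.not_mem_nil, or_false] at ht
      rcases ht with rfl | rfl | rfl | rfl
      · exact fin 1 (one_mem _) (one_mem _) (by rw [sW_nil]; exact facts.permAct_diagonal (one_mem _))
      · exact fin _ (nU_mem_mono h6 one_ne_zero) (hga ▸ hSA ga) p6
      · exact fin _ (nU_mem_mono h9 one_ne_zero) (hgb ▸ hSB gb) p9
      · exact fin _ (NN_mem List.mem_cons_self)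
          (Subgroup.mul_mem _ (hga ▸ hSA ga) (hgb ▸ hSB gb)) (permAct_NN List.mem_cons_self)
    rw [e]
    exact Subgroup.mul_mem _ (Subgroup.mul_mem _ (Subgroup.mul_mem _ (hSu _ hu1) (hSd hk)) hSn) (hSu _ hu)
  -- which diagonal elements lie in `L`
  have hmemL : ∀ (c : ℕ → Fˣ) (h : hT chevG2 c ∈ chevG2.group F),
      (⟨_, h⟩ : ↥(chevG2.group F)) ∈ L ↔ IsSquare (chiT chevG2 c 6) := by
    intro c h
    constructor
    · intro hmem
      rw [← hμr] at hmem
      obtain ⟨⟨x, y⟩, hxy⟩ := hmem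
      have hxy' : φ x * ψ y = hT chevG2 c := congrArg Subtype.val hxy
      have e1 := facts.hT_conj_xU c h6 (1 : F)
      rw [← hxy', ← hup] at e1
      have e2 : φ (x * upM 1 * x⁻¹) = φ (upM ((chiT chevG2 c 6 : F) * 1)) := by
        rw [hup ((chiT chevG2 c 6 : F) * 1)]
        refine Eq.trans ?_ e1
        rw [map_mul, map_mul, map_inv, mul_inv_rev]
        calc φ x * φ (upM 1) * (φ x)⁻¹ = φ x * (φ (upM 1) * ψ y) * (ψ y)⁻¹ * (φ x)⁻¹ := by group
          _ = _ := by rw [(hcomm (upM 1) y).eq]; group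
      have e3 := hφi e2
      rw [mul_inv_eq_iff_eq_mul, mul_one] at e3
      have e4 := congrArg Subtype.val e3
      change x.1 * !![1, (1 : F); 0, 1] = !![1, (chiT chevG2 c 6 : F); 0, 1] * x.1 at e4
      have a1 := congrFun (congrFun e4 0) 0
      have a2 := congrFun (congrFun e4 0) 1
      simp [Matrix.mul_apply, Fin.sum_univ_two] at a1 a2
      have hd := sl2_det x
      rw [a1, mul_zero, sub_zero] at hd
      refine ⟨Units.mk0 _ (left_ne_zero_of_mul_eq_one hd), Units.ext ?_⟩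
      rw [Units.val_mul, Units.val_mk0]
      calc (chiT chevG2 c 6 : F) = (chiT chevG2 c 6 : F) * (x.1 0 0 * x.1 1 1) := by rw [hd, mul_one]
        _ = x.1 0 0 * ((chiT chevG2 c 6 : F) * x.1 1 1) := by ring
        _ = _ := by
          congr 1
          linear_combination -a2
    · rintro ⟨u, hu⟩
      obtain ⟨e06, e16, e07, e17, -⟩ := cartan_val
      obtain ⟨c09, c19, p69, p96⟩ := vals_nine
      have hh9 : chiT chevG2 c 9 = c 0 := by rw [chiT_eq, c09, c19, zpow_one, zpow_zero, mul_one]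
      have hh6 : chiT chevG2 c 6 = c 0 ^ (-3 : ℤ) * c 1 ^ (2 : ℤ) := by rw [chiT_eq, e06, e16]
      set v : Fˣ := c 0 ^ (-1 : ℤ) * c 1 * u⁻¹ with hv
      have hv2 : v * v = c 0 := by
        have : u * u = c 0 ^ (-3 : ℤ) * c 1 ^ (2 : ℤ) := by rw [← hh6, hu]
        rw [hv, show c 0 ^ (-1 : ℤ) * c 1 * u⁻¹ * (c 0 ^ (-1 : ℤ) * c 1 * u⁻¹) =
          c 0 ^ (-1 : ℤ) * c 0 ^ (-1 : ℤ) * (c 1 * c 1) * (u * u)⁻¹ by
            rw [mul_inv]; simp only [mul_assoc, mul_comm, mul_left_comm], this, mul_inv, zpow_two,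
          ← zpow_add, ← zpow_neg, mul_mul_mul_comm, ← zpow_add, mul_inv_cancel, mul_one]
        norm_num
      obtain ⟨gu, hgu⟩ := hhA u
      obtain ⟨gv, hgv⟩ := hhB v
      set d := (hU chevG2 6 (u : F))⁻¹ * (hU chevG2 9 (v : F))⁻¹ * hT chevG2 c with hd
      have hdH : d ∈ chevG2.diagonalSubgroup F := Subgroup.mul_mem _ (Subgroup.mul_mem _
        (Subgroup.inv_mem _ (facts.hU_mem_diagonal h6 u.ne_zero))
        (Subgroup.inv_mem _ (facts.hU_mem_diagonal h9 v.ne_zero))) (facts.mem_diagonal_iff.2 ⟨c, rfl⟩)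
      obtain ⟨f, hf⟩ := facts.mem_diagonal_iff.1 hdH
      have hchi : ∀ r < chevG2.nroots, chiT chevG2 c r =
          u ^ prE chevG2 6 r * v ^ prE chevG2 9 r * chiT chevG2 f r := by
        intro r hr
        have : hT chevG2 c = hU chevG2 9 (v : F) * hU chevG2 6 (u : F) * hT chevG2 f := by
          rw [← hf, hd]; group
        rw [facts.hU_eq h6, facts.hU_eq h9, dU_mul, hT_eq_dU, hT_eq_dU, dU_mul] at this
        have e := congrArg (fun g : GL chevG2.Idx F => (g : Matrix chevG2.Idx chevG2.Idx F) (Sum.inr ⟨r, hr⟩) (Sum.inr ⟨r, hr⟩)) this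
        simp only [dU_val, diagC, Matrix.diagonal_apply_eq] at e
        rw [Units.ext e, prChar, prChar, mul_comm (v ^ prE chevG2 9 r)]
      have f6 : chiT chevG2 f 6 = 1 := by
        have e := hchi 6 h6
        rw [hu, facts.prE_self h6, p96, zpow_zero, mul_one, zpow_two] at e
        exact (mul_eq_left.1 e.symm)
      have f9 : chiT chevG2 f 9 = 1 := by
        have e := hchi 9 h9
        rw [hh9, p69, zpow_zero, one_mul, facts.prE_self h9, zpow_two, hv2] at e
        exact (mul_eq_left.1 e.symm)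
      rw [chiT_eq, c09, c19, zpow_one, zpow_zero, mul_one] at f9
      rw [chiT_eq, e06, e16, f9, one_zpow, one_mul, zpow_two] at f6
      have f7 : chiT chevG2 f 7 = 1 ∨ chiT chevG2 f 7 = -1 := by
        rw [chiT_eq, e07, e17, f9, one_zpow, one_mul]
        have h3 : (f 1 : F) * (f 1 : F) = 1 := by rw [← Units.val_mul, f6, Units.val_one]
        rcases mul_self_eq_one_iff.1 h3 with e | e
        · left; rw [show f 1 = 1 from Units.ext e, one_zpow]
        · right; rw [show f 1 = -1 from Units.ext (by rw [e, Units.val_neg, Units.val_one]),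
            zpow_neg, zpow_one, inv_neg, inv_one]
      have f6' : chiT chevG2 f 6 = 1 := by rw [chiT_eq, e06, e16, f9, one_zpow, one_mul, zpow_two, f6]
      have hdA : d ∈ φ.range := by
        rcases f7 with f7 | f7
        · refine ⟨1, ?_⟩
          rw [map_one, hf, ← facts.hT_one, eq_comm]
          refine hT_ext ?_ ?_
          · rw [f7, chiT_eq]; simp
          · rw [f6', chiT_eq]; simp
        · refine ⟨zA, ?_⟩
          rw [hzA, hf, tInv_hT, eq_comm]
          refine hT_ext ?_ ?_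
          · rw [f7, tInv_chi (show 7 < chevG2.nroots by decide), cartan_val.2.2.2.2.2.1]; norm_num
          · rw [f6', tInv_chi h6, facts.prE_self h6]; norm_num
      obtain ⟨gd, hgd⟩ := hdA
      have : (⟨_, h⟩ : ↥(chevG2.group F)) = B gv * A gu * A gd := by
        refine Subtype.ext ?_
        show hT chevG2 c = ψ gv * φ gu * φ gd
        rw [hgv, hgu, hgd, hd]; group
      rw [this]
      exact Subgroup.mul_mem _ (Subgroup.mul_mem _ (Subgroup.mem_sup_right ⟨gv, rfl⟩)
        (Subgroup.mem_sup_left ⟨gu, rfl⟩)) (Subgroup.mem_sup_left ⟨gd, rfl⟩)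
  have hindex : L.relIndex H = 2 := by
    rw [Subgroup.relIndex, Subgroup.index_eq_two_iff]
    obtain ⟨ν, hν⟩ : ∃ ν : Fˣ, ¬ IsSquare ν := by
      obtain ⟨x, hx⟩ := FiniteField.exists_nonsquare (F := F) (fun h2 => by
        have := FiniteField.even_card_of_char_two h2
        rw [Nat.card_eq_fintype_card, Nat.odd_iff] at hodd
        omega)
      have hx0 : x ≠ 0 := fun h => hx ⟨0, by rw [h, mul_zero]⟩
      exact ⟨Units.mk0 x hx0, fun ⟨r, hr⟩ => hx ⟨r, by have := congrArg Units.val hr; simpa using this⟩⟩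
    let c₀ : ℕ → Fˣ := fun i => if i = 0 then ν else 1
    have h0 : chiT chevG2 c₀ 6 = ν⁻¹ * (ν⁻¹ * ν⁻¹) := by
      rw [chiT_eq, cartan_val.1, cartan_val.2.1]
      simp [c₀, zpow_neg]
      rw [pow_succ, pow_two, mul_inv, mul_inv, mul_assoc]
    have hns : ¬ IsSquare (chiT chevG2 c₀ 6) := by
      rw [h0]
      rintro ⟨r, hr⟩
      refine hν ⟨(r * ν)⁻¹, ?_⟩
      rw [← mul_inv, mul_mul_mul_comm, ← hr]
      group
    have hd₀ : hT chevG2 c₀ ∈ chevG2.diagonalSubgroup F := facts.mem_diagonal_iff.2 ⟨c₀, rfl⟩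
    refine ⟨⟨⟨_, facts.diagonal_le_group hd₀⟩, Subgroup.mem_subgroupOf.2 hd₀⟩, fun b => ?_⟩
    obtain ⟨c, hc⟩ := facts.mem_diagonal_iff.1 (Subgroup.mem_subgroupOf.1 b.2)
    have hcg : hT chevG2 c ∈ chevG2.group F := hc ▸ b.1.2
    have hcg' : hT chevG2 (fun i => c i * c₀ i) ∈ chevG2.group F :=
      facts.diagonal_le_group (facts.mem_diagonal_iff.2 ⟨_, rfl⟩)
    have eb : (b : ↥(chevG2.group F)) = ⟨_, hcg⟩ := Subtype.ext hc
    have emul : ((b * ⟨⟨_, facts.diagonal_le_group hd₀⟩, Subgroup.mem_subgroupOf.2 hd₀⟩ : ↥H) : ↥(chevG2.group F)) =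
        ⟨_, hcg'⟩ := Subtype.ext (by
          show (b : GL chevG2.Idx F) * hT chevG2 c₀ = hT chevG2 (fun i => c i * c₀ i)
          rw [facts.hT_mul, ← hc])
    simp only [Subgroup.mem_subgroupOf, eb, emul, hmemL]
    have hmulchi : chiT chevG2 (fun i => c i * c₀ i) 6 = chiT chevG2 c 6 * chiT chevG2 c₀ 6 := by
      rw [chiT_eq, chiT_eq, chiT_eq, mul_zpow, mul_zpow, mul_mul_mul_comm]
    rw [hmulchi]
    by_cases hs : IsSquare (chiT chevG2 c 6)
    · refine Or.inr ⟨hs, fun ⟨r, hr⟩ => hns ?_⟩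
      obtain ⟨w, hw⟩ := hs
      exact ⟨r * w⁻¹, by rw [mul_mul_mul_comm, ← hr, ← mul_inv, ← hw, mul_right_comm, mul_inv_cancel, one_mul]⟩
    · exact Or.inl ⟨sq_dichotomy h20 hs hns, hs⟩
  have hrel : L.relIndex (Subgroup.centralizer ({tG F} : Set ↥(chevG2.group F))) = 2 := by
    rw [hC, Subgroup.relIndex, Subgroup.index_eq_two_iff]
    obtain ⟨a, ha⟩ := Subgroup.index_eq_two_iff.1 hindex
    refine ⟨⟨a, Subgroup.mem_sup_right a.2⟩, fun b => ?_⟩
    have hb : (b : ↥(chevG2.group F)) ∈ ((L ⊔ H : Subgroup ↥(chevG2.group F)) : Set ↥(chevG2.group F)) := b.2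
    rw [Subgroup.coe_mul_of_right_le_normalizer_left L H hHnorm] at hb
    obtain ⟨l, hl, h, hh, hlh⟩ := hb
    have := ha ⟨h, hh⟩
    simp only [Subgroup.mem_subgroupOf, Subgroup.coe_mul] at this ⊢
    rw [← hlh]
    simp only [mul_assoc, L.mul_mem_cancel_left hl]
    exact this
  refine ⟨A.range, B.range, ?_, ⟨(MonoidHom.ofInjective hAi).symm⟩, ⟨(MonoidHom.ofInjective hBi).symm⟩, ?_, hinf, hLC, hrel⟩
  · have h1 := Subgroup.card_mul_index (L.subgroupOf (Subgroup.centralizer ({tG F} : Set ↥(chevG2.group F))))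
    rw [show (L.subgroupOf (Subgroup.centralizer ({tG F} : Set ↥(chevG2.group F)))).index = 2 from hrel,
      Nat.card_congr (Subgroup.subgroupOfEquivOfLe hLC).toEquiv] at h1
    rw [← h1, mul_comm, hLcard, Nat.card_eq_fintype_card, mul_pow]
  · rintro _ ⟨x, rfl⟩ _ ⟨y, rfl⟩
    exact (hcommG x y).eq

end CfsgLib.Chev.Invol.G2
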